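import Groth.Agent.Lib.CurveAlg.Def

/-!
# Invariance of the subspaces used in the recursion
-/

namespace Groth.Agent.Lib.CurveAlg.Chain

open W4c5m1nsnscurves Def
open Finsupp (single linearCombination)

universe u

set_option linter.unusedSectionVars false
variable {R : Type u} [CommRing R] {m : ℕ} [NeZero m] (v : UGen m → R)

/-- Monomials in the variable `x₂` times `1` or `x₃`. -/
def U0 : Set (B m →₀ R) := {E} ∪ Set.range P ∪ Set.range (Q .x2)

/-- The span of `U0` and of the variables. -/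
noncomputable def W : Submodule R (B m →₀ R) := Submodule.span R (U0 ∪ Set.range fun u => Q u 0)

/-- `W` together with the powers of one variable. -/
noncomputable def V (w : CVar m) : Submodule R (B m →₀ R) := Submodule.span R (U0 ∪ (Set.range fun u => Q u 0) ∪ Set.range (Q w))

theorem E_mem : (E : B m →₀ R) ∈ W := Submodule.subset_span (Or.inl (Or.inl (Or.inl rfl)))
theorem P_mem (k : ℕ) : (P k : B m →₀ R) ∈ W := Submodule.subset_span (Or.inl (Or.inl (Or.inr ⟨k, rfl⟩)))
theorem Qx_mem (k : ℕ) : (Q .x2 k : B m →₀ R) ∈ W := Submodule.subset_span (Or.inl (Or.inr ⟨k, rfl⟩))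
theorem Q0_mem (u : CVar m) : (Q u 0 : B m →₀ R) ∈ W := Submodule.subset_span (Or.inr ⟨u, rfl⟩)
theorem xp_mem (k : ℕ) : (xp k : B m →₀ R) ∈ W := by cases k <;> simp [xp, E_mem, Qx_mem]
theorem xpy_mem (k : ℕ) : (xpy k : B m →₀ R) ∈ W := by cases k <;> simp [xpy, Q0_mem, P_mem]
theorem W_le_V (w : CVar m) : (W : Submodule R (B m →₀ R)) ≤ V w := Submodule.span_mono Set.subset_union_left
theorem Q_mem_V (w : CVar m) (k : ℕ) : (Q w k : B m →₀ R) ∈ V w := Submodule.subset_span (Or.inr ⟨k, rfl⟩)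

theorem xz_mem (i : Fin m) (k : ℕ) : xz v i k ∈ W := by
  induction k with
  | zero => exact Q0_mem _
  | succ k ih =>
    exact sub_mem (add_mem (add_mem (P_mem k) (Submodule.smul_mem _ _ ih)) (Submodule.smul_mem _ _ (Qx_mem k)))
      (Submodule.smul_mem _ _ (xp_mem k))

theorem base_inl_mem (u : CVar m) (k : ℕ) : base v u (some (Sum.inl k)) ∈ W := by
  cases u with
  | x2 => exact P_mem _
  | x3 =>
    simp only [base]
    exact add_mem (add_mem (add_mem (add_mem (P_mem _) (Submodule.smul_mem _ _ (P_mem _))) (Submodule.smul_mem _ _ (Qx_mem _)))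
      (Submodule.smul_mem _ _ (xpy_mem _))) (Submodule.smul_mem _ _ (xp_mem _))
  | xi i =>
    simp only [base]
    exact sub_mem (add_mem (add_mem (add_mem (P_mem _) (Submodule.smul_mem _ _ (P_mem _)))
      (Submodule.smul_mem _ _ (xz_mem v i _))) (Submodule.smul_mem _ _ (Qx_mem _))) (Submodule.smul_mem _ _ (xp_mem _))

theorem base_x_mem (u : CVar m) (k : ℕ) : base v u (some (Sum.inr (.x2, k))) ∈ W := by
  cases u with
  | x2 => exact Qx_mem _
  | x3 => exact P_mem _
  | xi i => exact xz_mem v i _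

theorem base_zero_mem (u w : CVar m) (h : u ≠ w ∨ w = .x2) : base v u (some (Sum.inr (w, 0))) ∈ W := by
  rcases eq_or_ne w .x2 with rfl | hw
  · exact base_x_mem v u 0
  have huw : u ≠ w := h.resolve_right hw
  cases u with
  | x2 =>
    cases w with
    | x2 => exact absurd rfl hw
    | x3 => exact P_mem _
    | xi i =>
      simp only [base]
      exact sub_mem (add_mem (add_mem (P_mem _) (Submodule.smul_mem _ _ (Q0_mem _))) (Submodule.smul_mem _ _ (Q0_mem _))) (Submodule.smul_mem _ _ E_mem)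
  | x3 =>
    cases w with
    | x2 => exact absurd rfl hw
    | x3 => exact absurd rfl huw
    | xi i =>
      simp only [base]
      exact add_mem (add_mem (P_mem _) (Submodule.smul_mem _ _ (Q0_mem _))) (Submodule.smul_mem _ _ E_mem)
  | xi i =>
    cases w with
    | x2 => exact absurd rfl hw
    | x3 =>
      simp only [base]
      exact add_mem (add_mem (P_mem _) (Submodule.smul_mem _ _ (Q0_mem _))) (Submodule.smul_mem _ _ E_mem)
    | xi j =>
      have hij : i ≠ j := fun h => huw (by rw [h])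
      simp only [base, hij, ↓reduceDIte]
      exact sub_mem (add_mem (add_mem (P_mem _) (Submodule.smul_mem _ _ (Q0_mem _))) (Submodule.smul_mem _ _ (Q0_mem _))) (Submodule.smul_mem _ _ E_mem)

theorem T_x_mem_W {f : B m →₀ R} (hf : f ∈ W) : T v .x2 f ∈ W := by
  induction hf using Submodule.span_induction with
  | mem g hg =>
    rcases hg with ((rfl | ⟨k, rfl⟩) | ⟨k, rfl⟩) | ⟨u, rfl⟩
    · rw [T_E]; exact Q0_mem _
    · rw [T_P]; exact base_inl_mem v _ k
    · rw [T_Qx]; exact base_x_mem v _ k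
    · rw [T_Q_zero]; exact base_zero_mem v _ _ (by by_cases h : u = .x2 <;> simp [h, Ne.symm])
  | zero => simp
  | add g g' _ _ hg hg' => rw [map_add]; exact add_mem hg hg'
  | smul r g _ hg => rw [map_smul]; exact Submodule.smul_mem _ r hg

theorem T_mem_V_of_W (w : CVar m) {f : B m →₀ R} (hf : f ∈ W) : T v w f ∈ V w := by
  induction hf using Submodule.span_induction with
  | mem g hg =>
    rcases hg with ((rfl | ⟨k, rfl⟩) | ⟨k, rfl⟩) | ⟨u, rfl⟩
    · rw [T_E]; exact W_le_V w (Q0_mem _)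
    · rw [T_P]; exact W_le_V w (base_inl_mem v _ k)
    · rw [T_Qx]; exact W_le_V w (base_x_mem v _ k)
    · by_cases h : w = u
      · subst h
        by_cases hw : w = .x2
        · subst hw; rw [T_Qx]; exact W_le_V _ (base_x_mem v _ 0)
        · rw [T_Q_self v hw]; exact Q_mem_V w 1
      · rw [T_Q_zero]; exact W_le_V w (base_zero_mem v _ _ (Or.inl h))
  | zero => simp
  | add g g' _ _ hg hg' => rw [map_add]; exact (V w).add_mem hg hg'
  | smul r g _ hg => rw [map_smul]; exact (V w).smul_mem r hg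

theorem loc_eq_T {w : CVar m} (hw : w ≠ .x2) {f : B m →₀ R} (hf : f ∈ V w) :
    loc v w f = T v w f ∧ T v w f ∈ V w := by
  induction hf using Submodule.span_induction with
  | mem g hg =>
    rcases hg with (((rfl | ⟨k, rfl⟩) | ⟨k, rfl⟩) | ⟨u, rfl⟩) | ⟨k, rfl⟩
    · exact ⟨loc_E v w, T_mem_V_of_W v w E_mem⟩
    · exact ⟨loc_P v w k, T_mem_V_of_W v w (P_mem k)⟩
    · exact ⟨loc_Qx v w k, T_mem_V_of_W v w (Qx_mem k)⟩
    · exact ⟨loc_Q_zero v w u, T_mem_V_of_W v w (Q0_mem u)⟩
    · rw [loc_Q_self v hw, T_Q_self v hw]; exact ⟨rfl, Q_mem_V w _⟩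
  | zero => simp
  | add g g' _ _ hg hg' => rw [map_add, map_add, hg.1, hg'.1]; exact ⟨rfl, (V w).add_mem hg.2 hg'.2⟩
  | smul r g _ hg => rw [map_smul, map_smul, hg.1]; exact ⟨rfl, (V w).smul_mem r hg.2⟩

theorem T_Q_mem_V (u : CVar m) {w : CVar m} (hw : w ≠ .x2) (k : ℕ) : T v u (Q w k) ∈ V w := by
  induction k with
  | zero =>
    by_cases h : u = w
    · subst h; rw [T_Q_self v hw]; exact Q_mem_V _ _
    · rw [T_Q_zero]; exact W_le_V w (base_zero_mem v _ _ (Or.inl h))
  | succ k ih => rw [T_Q_succ v u hw, (loc_eq_T v hw ih).1]; exact (loc_eq_T v hw ih).2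

/-- The defining recursion in terms of the operators. -/
theorem T_Q_succ' (u : CVar m) {w : CVar m} (hw : w ≠ .x2) (k : ℕ) :
    T v u (Q w (k + 1)) = T v w (T v u (Q w k)) := by
  rw [T_Q_succ v u hw, (loc_eq_T v hw (T_Q_mem_V v u hw k)).1]

end Groth.Agent.Lib.CurveAlg.Chain
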