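import Groth.Agent.Lib.CurveAlg.Chain
import Mathlib.Tactic.LinearCombination
import Mathlib.Tactic.Module
import Mathlib.Tactic.Abel

/-!
# The operators commute when the relations of `U_n` hold
-/

namespace Groth.Agent.Lib.CurveAlg.Comm

open W4c5m1nsnscurves Def Chain

universe u

variable {R : Type u} [CommRing R] {m : ℕ} [NeZero m] {v : UGen m → R}
set_option linter.unusedSectionVars false

/-- The relations of `U_n`. -/
structure Rel (v : UGen m → R) : Prop where
  lin : ∀ i j (h : i ≠ j), v (.cij i j h) + v (.cij j i (Ne.symm h)) = al v i + v (.ci j) + v (.cbi j)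
  quad : ∀ i j (h : i ≠ j), v (.cij j i (Ne.symm h)) * v (.ci j) + v (.cij i j h) * v (.ci i) - v (.ci i) * v (.ci j) = v .c
  quad' : ∀ i j (h : i ≠ j), v (.cij j i (Ne.symm h)) * v (.cbi i) + v (.cij i j h) * v (.cbi j) - v (.cbi i) * v (.cbi j) = v .cb
  tri : ∀ i j k (h₁ : i ≠ j) (h₂ : j ≠ k) (h₃ : i ≠ k),
    v (.cij i j h₁) * v (.cij j k h₂) + v (.cij j i (Ne.symm h₁)) * v (.cij i k h₃) -
      v (.cij i k h₃) * v (.cij j k h₂) + al v k * v (.ci k) = v .c

theorem rel_iff (v : UGen m → R) : (∀ p ∈ URel R m, MvPolynomial.eval v p = 0) ↔ Rel v := by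
  constructor
  · intro h
    refine ⟨fun i j hij => ?_, fun i j hij => ?_, fun i j hij => ?_, fun i j k h₁ h₂ h₃ => ?_⟩
    · have := h _ (Or.inl (Or.inl (Or.inl ⟨⟨(i, j), hij⟩, rfl⟩)))
      simp at this; simp only [al]; linear_combination this
    · have := h _ (Or.inl (Or.inl (Or.inr ⟨⟨(i, j), hij⟩, rfl⟩)))
      simp at this; linear_combination this
    · have := h _ (Or.inl (Or.inr ⟨⟨(i, j), hij⟩, rfl⟩))
      simp at this; linear_combination this
    · have := h _ (Or.inr ⟨⟨(i, j, k), h₁, h₂, h₃⟩, rfl⟩)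
      simp at this; simp only [al]; linear_combination this
  · rintro h p (((⟨q, rfl⟩ | ⟨q, rfl⟩) | ⟨q, rfl⟩) | ⟨q, rfl⟩)
    · have := h.lin _ _ q.2; simp only [al] at this; simp; linear_combination this
    · have := h.quad _ _ q.2; simp; linear_combination this
    · have := h.quad' _ _ q.2; simp; linear_combination this
    · have := h.tri _ _ _ q.2.1 q.2.2.1 q.2.2.2; simp only [al] at this; simp; linear_combination this

theorem a_eq (h : Rel v) {i j : Fin m} (hij : i ≠ j) :
    v .a = v (.cij i j hij) + v (.cij j i hij.symm) - v (.ci i) - v (.cbi i) - v (.ci j) - v (.cbi j) := by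
  have := h.lin i j hij; simp only [al] at this; linear_combination -this

theorem dd_eq (h : Rel v) (i j : Fin m) : dd v i = dd v j := by
  rcases eq_or_ne i j with rfl | hij
  · rfl
  have ha := a_eq h hij
  simp only [dd, al, ← h.quad i j hij, ← h.quad' i j hij, ha]
  ring

theorem T_x_yzi (h : Rel v) (i : Fin m) :
    T v .x2 (T v .x3 (Q (.xi i) 0)) = T v .x3 (T v .x2 (Q (.xi i) 0)) := by
  simp [base, xp, xpy, xz]
  rw [dd_eq h 0 i]
  match_scalars <;> (try simp only [dd, al]) <;> ring1

theorem T_x_zz (h : Rel v) {i j : Fin m} (hij : i ≠ j) :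
    T v .x2 (T v (.xi i) (Q (.xi j) 0)) = T v (.xi i) (T v .x2 (Q (.xi j) 0)) := by
  simp [base, xp, xpy, xz, hij]
  simp only [al]
  match_scalars <;> (try simp only [← h.quad i j hij, ← h.quad' i j hij, a_eq h hij]) <;> ring1

theorem T_xi_xj_y (h : Rel v) {i j : Fin m} (hij : i ≠ j) :
    T v (.xi i) (T v (.xi j) (Q .x3 0)) = T v (.xi j) (T v (.xi i) (Q .x3 0)) := by
  simp [base, xp, xpy, xz, hij, hij.symm]
  simp only [al]
  match_scalars <;> (try simp only [← h.quad i j hij, ← h.quad' i j hij, a_eq h hij]) <;> ring1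

theorem T_xi_xj_xl (h : Rel v) {i j l : Fin m} (hij : i ≠ j) (hil : i ≠ l) (hjl : j ≠ l) :
    T v (.xi i) (T v (.xi j) (Q (.xi l) 0)) = T v (.xi j) (T v (.xi i) (Q (.xi l) 0)) := by
  simp [base, xp, xpy, xz, hij, hij.symm, hil, hil.symm, hjl, hjl.symm]
  have := h.lin i l hil
  have := h.lin j l hjl
  have := h.tri i j l hij hjl hil
  have := h.tri l j i hjl.symm hij.symm hil.symm
  have := h.tri i l j hil hjl.symm hij
  have := h.tri l i j hil.symm hij hjl.symm
  have := h.tri j i l hij.symm hil hjl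
  have := h.tri j l i hjl hil.symm hij.symm
  simp only [al] at *
  match_scalars
  all_goals first
    | ring1
    | grind

theorem T_x_ziy (h : Rel v) (i : Fin m) :
    T v .x2 (T v (.xi i) (Q .x3 0)) = T v (.xi i) (T v .x2 (Q .x3 0)) := by
  simp [base, xp, xz]
  match_scalars <;> (try simp only [al]) <;> ring1

theorem T_y_zi_P (h : Rel v) (i : Fin m) :
    T v .x3 (T v (.xi i) (P 0)) = T v (.xi i) (T v .x3 (P 0)) := by
  simp [base, xp, xpy, xz]
  rw [dd_eq h 0 i]
  match_scalars <;> (try simp only [dd, al]) <;> ring1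

theorem T_y_xi_xl (h : Rel v) {i l : Fin m} (hil : i ≠ l) :
    T v .x3 (T v (.xi i) (Q (.xi l) 0)) = T v (.xi i) (T v .x3 (Q (.xi l) 0)) := by
  simp [base, xp, xpy, xz, hil]
  rw [dd_eq h 0 i]
  simp only [dd, al]
  match_scalars <;> (try simp only [← h.quad i l hil, ← h.quad' i l hil, a_eq h hil]) <;> ring1

theorem comm_x (h : Rel v) (u : CVar m) {f : B m →₀ R} (hf : f ∈ W) :
    T v .x2 (T v u f) = T v u (T v .x2 f) := by
  induction hf using Submodule.span_induction with
  | mem g hg =>
    rcases hg with ((rfl | ⟨k, rfl⟩) | ⟨k, rfl⟩) | ⟨w, rfl⟩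
    · cases u <;> simp [base, xp, xz]
    · cases u <;> simp [base, -T_xp, T_x_xp, T_x_xpy, T_x_xz]
    · cases u <;> simp [base, T_x_xz]
    · by_cases hw : w = .x2
      · subst hw
        cases u <;> simp [base, T_x_xz]
      by_cases huw : u = w
      · subst huw
        rw [T_Q_self v hw, T_Q_succ' v _ hw]
      cases u with
      | x2 => rfl
      | x3 =>
        cases w with
        | x2 => exact absurd rfl hw
        | x3 => exact absurd rfl huw
        | xi i => exact T_x_yzi h i
      | xi i =>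
        cases w with
        | x2 => exact absurd rfl hw
        | x3 => exact T_x_ziy h i
        | xi j => exact T_x_zz h (fun hh => huw (by rw [hh]))
  | zero => simp
  | add g g' _ _ hg hg' => rw [map_add, map_add, map_add, map_add, hg, hg']
  | smul r g _ hg => rw [map_smul, map_smul, map_smul, map_smul, hg]

theorem comm_E (u w : CVar m) : T v u (T v w E) = T v w (T v u E) := by
  rw [T_E, T_E, T_Q_zero, T_Q_zero]
  cases u <;> cases w <;> simp [base, xp, xz]
  rename_i i j
  by_cases hij : i = j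
  · subst hij; rfl
  · simp [hij, Ne.symm hij]; abel

theorem comm_P_zero (h : Rel v) (u w : CVar m) : T v u (T v w (P 0)) = T v w (T v u (P 0)) := by
  have hP : (P 0 : B m →₀ R) = T v .x2 (Q .x3 0) := by simp [base]
  cases u with
  | x2 => exact comm_x h w (P_mem 0)
  | x3 =>
    cases w with
    | x2 => exact (comm_x h _ (P_mem 0)).symm
    | x3 => rfl
    | xi j => exact T_y_zi_P h j
  | xi i =>
    cases w with
    | x2 => exact (comm_x h _ (P_mem 0)).symm
    | x3 => exact (T_y_zi_P h i).symm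
    | xi j =>
      by_cases hij : i = j
      · rw [hij]
      have hy : ∀ l : Fin m, T v (.xi l) (Q .x3 0) ∈ W := fun l => by
        rw [T_Q_zero]; exact base_zero_mem v _ _ (Or.inl (by simp))
      rw [hP, ← comm_x h _ (Q0_mem _), ← comm_x h _ (hy j), ← comm_x h _ (Q0_mem _), ← comm_x h _ (hy i),
        T_xi_xj_y h hij]

theorem comm_P_Qx (h : Rel v) (u w : CVar m) (k : ℕ) :
    T v u (T v w (P k)) = T v w (T v u (P k)) ∧ T v u (T v w (Q .x2 k)) = T v w (T v u (Q .x2 k)) := by
  have hmem : ∀ (l : CVar m) (k : ℕ), T v l (P k) ∈ W ∧ T v l (Q .x2 k) ∈ W := fun l k =>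
    ⟨by rw [T_P]; exact base_inl_mem v l k, by rw [T_Qx]; exact base_x_mem v l k⟩
  induction k with
  | zero =>
    refine ⟨comm_P_zero h u w, ?_⟩
    have hE : ∀ l : CVar m, T v l E ∈ W := fun l => by rw [T_E]; exact Q0_mem l
    rw [show (Q .x2 0 : B m →₀ R) = T v .x2 E from (T_E v _).symm, ← comm_x h _ E_mem, ← comm_x h _ (hE w),
      ← comm_x h _ E_mem, ← comm_x h _ (hE u), comm_E]
  | succ k ih =>
    constructor
    · rw [show (P (k + 1) : B m →₀ R) = T v .x2 (P k) by simp [base], ← comm_x h _ (P_mem k),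
        ← comm_x h _ (hmem w k).1, ← comm_x h _ (P_mem k), ← comm_x h _ (hmem u k).1, ih.1]
    · rw [show (Q .x2 (k + 1) : B m →₀ R) = T v .x2 (Q .x2 k) by simp [base], ← comm_x h _ (Qx_mem k),
        ← comm_x h _ (hmem w k).2, ← comm_x h _ (Qx_mem k), ← comm_x h _ (hmem u k).2, ih.2]

theorem comm_Q_zero (h : Rel v) (u w l : CVar m) : T v u (T v w (Q l 0)) = T v w (T v u (Q l 0)) := by
  by_cases hl : l = .x2
  · subst hl; exact (comm_P_Qx h u w 0).2
  by_cases huw : u = w
  · rw [huw]
  by_cases hul : u = l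
  · subst hul; rw [T_Q_self v hl, T_Q_succ' v w hl]
  by_cases hwl : w = l
  · subst hwl; rw [T_Q_self v hl, T_Q_succ' v u hl]
  cases u with
  | x2 => exact comm_x h w (Q0_mem l)
  | x3 =>
    cases w with
    | x2 => exact (comm_x h _ (Q0_mem l)).symm
    | x3 => rfl
    | xi i =>
      cases l with
      | x2 => exact absurd rfl hl
      | x3 => exact absurd rfl hul
      | xi l => exact T_y_xi_xl h (fun hh => hwl (by rw [hh]))
  | xi i =>
    cases w with
    | x2 => exact (comm_x h _ (Q0_mem l)).symm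
    | x3 =>
      cases l with
      | x2 => exact absurd rfl hl
      | x3 => exact absurd rfl hwl
      | xi l => exact (T_y_xi_xl h (fun hh => hul (by rw [hh]))).symm
    | xi j =>
      cases l with
      | x2 => exact absurd rfl hl
      | x3 => exact T_xi_xj_y h (fun hh => huw (by rw [hh]))
      | xi l => exact T_xi_xj_xl h (fun hh => huw (by rw [hh])) (fun hh => hul (by rw [hh])) (fun hh => hwl (by rw [hh]))

theorem comm_W (h : Rel v) (u w : CVar m) {f : B m →₀ R} (hf : f ∈ W) : T v u (T v w f) = T v w (T v u f) := by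
  induction hf using Submodule.span_induction with
  | mem g hg =>
    rcases hg with ((rfl | ⟨k, rfl⟩) | ⟨k, rfl⟩) | ⟨l, rfl⟩
    · exact comm_E u w
    · exact (comm_P_Qx h u w k).1
    · exact (comm_P_Qx h u w k).2
    · exact comm_Q_zero h u w l
  | zero => simp
  | add g g' _ _ hg hg' => rw [map_add, map_add, map_add, map_add, hg, hg']
  | smul r g _ hg => rw [map_smul, map_smul, map_smul, map_smul, hg]

theorem comm_V (h : Rel v) (u : CVar m) {l : CVar m} (hl : l ≠ .x2) {f : B m →₀ R} (hf : f ∈ V l) :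
    T v u (T v l f) = T v l (T v u f) := by
  induction hf using Submodule.span_induction with
  | mem g hg =>
    rcases hg with hg | ⟨k, rfl⟩
    · exact comm_W h u l (Submodule.subset_span hg)
    · rw [T_Q_self v hl, T_Q_succ' v u hl]
  | zero => simp
  | add g g' _ _ hg hg' => rw [map_add, map_add, map_add, map_add, hg, hg']
  | smul r g _ hg => rw [map_smul, map_smul, map_smul, map_smul, hg]

theorem comm_Q (h : Rel v) (u w l : CVar m) (k : ℕ) : T v u (T v w (Q l k)) = T v w (T v u (Q l k)) := by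
  by_cases hl : l = .x2
  · subst hl; exact (comm_P_Qx h u w k).2
  induction k with
  | zero => exact comm_Q_zero h u w l
  | succ k ih =>
    rw [T_Q_succ' v w hl, T_Q_succ' v u hl, comm_V h u hl (T_Q_mem_V v w hl k),
      comm_V h w hl (T_Q_mem_V v u hl k), ih]

theorem comm (h : Rel v) (u w : CVar m) : T v u * T v w = T v w * T v u := by
  refine Finsupp.lhom_ext' fun b => LinearMap.ext_ring ?_
  simp only [LinearMap.coe_comp, Function.comp_apply, Module.End.mul_apply, Finsupp.lsingle_apply]
  rcases b with _ | k | ⟨l, k⟩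
  · exact comm_E u w
  · exact (comm_P_Qx h u w k).1
  · exact comm_Q h u w l k

end Groth.Agent.Lib.CurveAlg.Comm
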