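import Mathlib.RingTheory.Adjoin.Basic
import Mathlib.RingTheory.Ideal.Quotient.Operations
import Mathlib.Algebra.MvPolynomial.CommRing
import Mathlib.LinearAlgebra.Finsupp.LinearCombination

/-!
# A monomial basis from commuting operators
-/

namespace Groth.Agent.Lib.CurveAlg.Ops

open MvPolynomial Finsupp

variable {R : Type*} [CommRing R] {σ B : Type*}

variable (T : σ → Module.End R (B →₀ R))

/-- The subalgebra generated by the operators. -/
noncomputable abbrev opAlg : Subalgebra R (Module.End R (B →₀ R)) := Algebra.adjoin R (Set.range T)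

/-- The action of polynomials through the operators. -/
noncomputable def act (hT : ∀ i j, T i * T j = T j * T i) : MvPolynomial σ R →ₐ[R] Module.End R (B →₀ R) :=
  letI : CommSemiring (opAlg T) := { (opAlg T).toSemiring with
    mul_comm := fun p q => Subtype.ext <| Algebra.commute_of_mem_adjoin_of_forall_mem_commute q.2 fun t ht =>
      (Algebra.commute_of_mem_adjoin_of_forall_mem_commute p.2 fun s hs => by
        obtain ⟨i, rfl⟩ := hs; obtain ⟨j, rfl⟩ := ht; exact hT j i).symm }
  (opAlg T).val.comp (aeval fun i => (⟨T i, Algebra.subset_adjoin ⟨i, rfl⟩⟩ : opAlg T))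

theorem act_X (hT : ∀ i j, T i * T j = T j * T i) (i : σ) : act T hT (X i) = T i := by
  simp [act, aeval_X]

/-- Commuting operators compatible with a family in a quotient of a polynomial ring show that it is a basis. -/
theorem linearIndependent_and_span (hT : ∀ i j, T i * T j = T j * T i) (S : Set (MvPolynomial σ R)) (b₀ : B)
    (c : B → MvPolynomial σ R) (h₁ : Ideal.Quotient.mk (Ideal.span S) (c b₀) = 1)
    (hι : ∀ i b, Finsupp.linearCombination R (fun b => Ideal.Quotient.mk (Ideal.span S) (c b)) (T i (single b 1)) =
      Ideal.Quotient.mk (Ideal.span S) (X i * c b))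
    (hS : ∀ p ∈ S, act T hT p (single b₀ 1) = 0) (hc : ∀ b, act T hT (c b) (single b₀ 1) = single b 1) :
    LinearIndependent R (fun b => Ideal.Quotient.mk (Ideal.span S) (c b)) ∧
      Submodule.span R (Set.range fun b => Ideal.Quotient.mk (Ideal.span S) (c b)) = ⊤ := by
  set ι := Finsupp.linearCombination R (fun b => Ideal.Quotient.mk (Ideal.span S) (c b))
  have hιT : ∀ i f, ι (T i f) = Ideal.Quotient.mk (Ideal.span S) (X i) * ι f := fun i f => by
    induction f using Finsupp.induction_linear with
    | zero => simp
    | add f g hf hg => rw [map_add, map_add, map_add, hf, hg, mul_add]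
    | single b r =>
      rw [show (single b r : B →₀ R) = r • single b 1 by simp, map_smul, map_smul, hι, map_smul, map_mul, mul_smul_comm]
      simp [ι]
  have hact : ∀ p, ι (act T hT p (single b₀ 1)) = Ideal.Quotient.mk (Ideal.span S) p := fun p => by
    induction p using MvPolynomial.induction_on with
    | C r =>
      rw [← algebraMap_eq, AlgHom.commutes, Module.algebraMap_end_apply, map_smul,
        linearCombination_single, one_smul, h₁, ← mul_one (Ideal.Quotient.mk _ (algebraMap R _ r))]
      exact Algebra.smul_def r (1 : MvPolynomial σ R ⧸ Ideal.span S)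
    | add p q hp hq => rw [map_add, LinearMap.add_apply, map_add, map_add, hp, hq]
    | mul_X p i hp =>
      rw [mul_comm p, map_mul, act_X, Module.End.mul_apply, hιT, hp, ← map_mul]
  let Φ : MvPolynomial σ R →ₗ[R] (B →₀ R) := (LinearMap.applyₗ (single b₀ 1)).comp (act T hT).toLinearMap
  have hker : ∀ p ∈ Ideal.span S, Φ p = 0 := fun p hp => by
    induction hp using Submodule.span_induction with
    | mem q hq => exact hS q hq
    | zero => exact map_zero Φ
    | add q r _ _ hq hr => rw [map_add, hq, hr, add_zero]
    | smul r q _ hq =>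
      show act T hT (r * q) (single b₀ 1) = 0
      rw [map_mul, Module.End.mul_apply, show act T hT q (single b₀ 1) = 0 from hq, map_zero]
  refine ⟨?_, ?_⟩
  · rw [linearIndependent_iff]
    intro l hl
    have key : ∀ l : B →₀ R, ∀ p, Ideal.Quotient.mk (Ideal.span S) p = ι l → Φ p = l := fun l => by
      intro p hp
      have hsum : Ideal.Quotient.mk (Ideal.span S) (l.sum fun b r => r • c b) = ι l := by
        simp only [ι, linearCombination_apply, Finsupp.sum, map_sum]
        exact Finset.sum_congr rfl fun b _ => rfl
      have h0 := hker _ ((Ideal.Quotient.eq).mp (hp.trans hsum.symm))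
      rw [map_sub, sub_eq_zero] at h0
      rw [h0, map_finsuppSum]
      conv_rhs => rw [← Finsupp.sum_single l]
      refine Finsupp.sum_congr fun b _ => ?_
      rw [map_smul, show Φ (c b) = single b 1 from hc b, smul_single_one]
    rw [← key l 0 (by rw [map_zero]; exact hl.symm), map_zero]
  · rw [eq_top_iff]
    intro q _
    obtain ⟨p, rfl⟩ := Ideal.Quotient.mk_surjective q
    rw [← hact p]
    exact Finsupp.range_linearCombination R |>.le ⟨_, rfl⟩

end Groth.Agent.Lib.CurveAlg.Ops
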