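import Groth.Prelude.Def_W4c5m1nsnscurvesC
import Groth.Agent.Lib.CurveAlg.Ops
import Mathlib.Tactic.LinearCombination

/-!
# Operators of the affine curve on its monomial basis: definitions
-/

namespace Groth.Agent.Lib.CurveAlg.Def

open W4c5m1nsnscurves
open Finsupp (single linearCombination)

universe u

variable (R : Type u) [CommRing R] (m : ℕ) [NeZero m] (v : UGen m → R)

/-- The index type of the monomials. -/
abbrev B := Option (ℕ ⊕ (CVar m × ℕ))

/-- The monomials. -/
noncomputable def mon : B m → MvPolynomial (CVar m) R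
  | none => 1
  | some (Sum.inl k) => MvPolynomial.X .x2 ^ (k + 1) * MvPolynomial.X .x3
  | some (Sum.inr (y, k)) => MvPolynomial.X y ^ (k + 1)

variable {R m}

noncomputable def E : B m →₀ R := single none 1
noncomputable def P (k : ℕ) : B m →₀ R := single (some (Sum.inl k)) 1
noncomputable def Q (u : CVar m) (k : ℕ) : B m →₀ R := single (some (Sum.inr (u, k))) 1

/-- `x₂^k`. -/
noncomputable def xp : ℕ → (B m →₀ R)
  | 0 => E
  | k + 1 => Q .x2 k

/-- `x₂^k x₃`. -/
noncomputable def xpy : ℕ → (B m →₀ R)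
  | 0 => Q .x3 0
  | k + 1 => P k

def al (i : Fin m) : R := v .a + v (.ci i) + v (.cbi i)

def dd (i : Fin m) : R :=
  v (.ci i) * v (.cbi i) * al v i - v .c * (v .a + v (.cbi i)) - v (.ci i) * v .cb

/-- `x₂^k x_i`. -/
noncomputable def xz (i : Fin m) : ℕ → (B m →₀ R)
  | 0 => Q (.xi i) 0
  | k + 1 => P k + v (.ci i) • xz i k + v (.cbi i) • Q .x2 k - v .c • xp k

/-- Values of the variables on `1`, the monomials `x₂^(k+1) x₃`, `x₂^(k+1)`, and the variables. -/
noncomputable def base : CVar m → B m → (B m →₀ R)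
  | u, none => Q u 0
  | .x2, some (Sum.inl k) => P (k + 1)
  | .x3, some (Sum.inl k) =>
      P (k + 1) + v .a • P k + (v .cb - v .c) • Q .x2 k + v .c • xpy k + dd v 0 • xp k
  | .xi i, some (Sum.inl k) =>
      P (k + 1) + al v i • P k + (al v i * v (.ci i)) • xz v i k + (v .cb - v .c) • Q .x2 k - (al v i * v .c) • xp k
  | .x2, some (Sum.inr (.x2, k)) => Q .x2 (k + 1)
  | .x3, some (Sum.inr (.x2, k)) => P k
  | .xi i, some (Sum.inr (.x2, k)) => xz v i (k + 1)
  | .x2, some (Sum.inr (.x3, 0)) => P 0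
  | .x3, some (Sum.inr (.x3, 0)) => Q .x3 1
  | .xi i, some (Sum.inr (.x3, 0)) => P 0 + al v i • Q (.xi i) 0 + (v .cb - v .c - al v i * v (.cbi i)) • E
  | .x2, some (Sum.inr (.xi i, 0)) => P 0 + v (.ci i) • Q (.xi i) 0 + v (.cbi i) • Q .x2 0 - v .c • E
  | .x3, some (Sum.inr (.xi i, 0)) => P 0 + al v i • Q (.xi i) 0 + (v .cb - v .c - al v i * v (.cbi i)) • E
  | .xi i, some (Sum.inr (.xi j, 0)) =>
      if h : i = j then Q (.xi j) 1 else
        P 0 + v (.cij i j h) • Q (.xi j) 0 + v (.cij j i (Ne.symm h)) • Q (.xi i) 0 - v .c • E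
  | _, some (Sum.inr (_, _ + 1)) => 0

open scoped Classical in
/-- Multiplication by a variable where it is needed to define the others. -/
noncomputable def locVal (w : CVar m) : B m → (B m →₀ R)
  | some (Sum.inr (u, k + 1)) => if u = .x2 then base v w (some (Sum.inr (u, k + 1))) else
      if u = w then Q w (k + 2) else 0
  | b => base v w b

noncomputable def loc (w : CVar m) : Module.End R (B m →₀ R) := linearCombination R (locVal v w)

/-- Values of multiplication by a variable on every monomial. -/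
noncomputable def val (u : CVar m) : B m → (B m →₀ R)
  | some (Sum.inr (.x3, k)) => (loc v .x3 ^ k) (base v u (some (Sum.inr (.x3, 0))))
  | some (Sum.inr (.xi i, k)) => (loc v (.xi i) ^ k) (base v u (some (Sum.inr (.xi i, 0))))
  | b => base v u b

noncomputable def T (u : CVar m) : Module.End R (B m →₀ R) := linearCombination R (val v u)

@[simp] theorem T_E (u : CVar m) : T v u E = Q u 0 := by simp [T, E, val, base]
@[simp] theorem T_P (u : CVar m) (k : ℕ) : T v u (P k) = base v u (some (Sum.inl k)) := by simp [T, P, val]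
@[simp] theorem T_Qx (u : CVar m) (k : ℕ) : T v u (Q .x2 k) = base v u (some (Sum.inr (.x2, k))) := by
  simp [T, Q, val]
@[simp] theorem T_Q_zero (u w : CVar m) : T v u (Q w 0) = base v u (some (Sum.inr (w, 0))) := by
  cases w <;> simp [T, Q, val]

theorem loc_E (w : CVar m) : loc v w E = T v w E := by simp [loc, E, locVal, base, T, val]
theorem loc_P (w : CVar m) (k : ℕ) : loc v w (P k) = T v w (P k) := by simp [loc, P, locVal, T, val]
theorem loc_Qx (w : CVar m) (k : ℕ) : loc v w (Q .x2 k) = T v w (Q .x2 k) := by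
  cases k <;> simp [loc, Q, locVal, T, val]
theorem loc_Q_zero (w u : CVar m) : loc v w (Q u 0) = T v w (Q u 0) := by
  rw [T_Q_zero]; simp [loc, Q, locVal]
theorem loc_Q_self {w : CVar m} (hw : w ≠ .x2) (k : ℕ) : loc v w (Q w k) = Q w (k + 1) := by
  cases k with
  | zero =>
    rw [loc_Q_zero, T_Q_zero]
    cases w <;> simp_all [base]
  | succ k => simp [loc, Q, locVal, hw]

theorem T_Q_succ (u : CVar m) {w : CVar m} (hw : w ≠ .x2) (k : ℕ) :
    T v u (Q w (k + 1)) = loc v w (T v u (Q w k)) := by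
  cases w <;> simp_all [T, Q, val, pow_succ', Module.End.mul_apply]

theorem T_Q_self {w : CVar m} (hw : w ≠ .x2) (k : ℕ) : T v w (Q w k) = Q w (k + 1) := by
  induction k with
  | zero => rw [T_Q_zero]; cases w <;> simp_all [base]
  | succ k ih => rw [T_Q_succ v w hw, ih, loc_Q_self v hw]

@[simp] theorem T_xp (u : CVar m) (k : ℕ) :
    T v u (xp k) = match k with | 0 => Q u 0 | k + 1 => base v u (some (Sum.inr (.x2, k))) := by
  cases k <;> simp [xp]

theorem T_x_xp (k : ℕ) : T v .x2 (xp k) = xp (k + 1) := by cases k <;> simp [xp, base]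
theorem T_x_xpy (k : ℕ) : T v .x2 (xpy k) = xpy (k + 1) := by cases k <;> simp [xpy, base]

theorem T_x_xz (i : Fin m) (k : ℕ) : T v .x2 (xz v i k) = xz v i (k + 1) := by
  induction k with
  | zero => simp [xz, base, xp, E]
  | succ k ih =>
    conv_lhs => rw [xz]
    rw [map_sub, map_add, map_add, map_smul, map_smul, map_smul, ih, T_x_xp]
    conv_rhs => rw [xz]
    simp [base]

end Groth.Agent.Lib.CurveAlg.Def
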