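import Groth.Agent.Lib.CurveAlg.Tower
import Groth.Agent.S18247
import Mathlib.RingTheory.PowerSeries.Basic
import Mathlib.LinearAlgebra.FreeModule.Finite.Basic
import Mathlib.RingTheory.AlgebraTower
import Mathlib.LinearAlgebra.Dimension.Constructions
import Mathlib.LinearAlgebra.InvariantBasisNumber
import Mathlib.Data.Finite.Sigma
import Mathlib.Data.Fintype.Sigma
import Mathlib.LinearAlgebra.FreeModule.StrongRankCondition
import Mathlib.RingTheory.MvPolynomial.Basic

/-!
# Homogeneous bases of `O(U_n)` and their Hilbert series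
-/

namespace Groth.Agent.Lib.CurveAlg.Hilbert

open W4c5m1nsnscurves MvPolynomial

/-- The generating series of a degree function. -/
noncomputable def series {ι : Type*} (f : ι → ℕ) : PowerSeries ℤ :=
  PowerSeries.mk fun d => (Nat.card {x // f x = d} : ℤ)

/-- A degree function with finite fibres. -/
def FinFib {ι : Type*} (f : ι → ℕ) : Prop := ∀ d, Finite {x // f x = d}

/-- The fibre of a sum of degree functions. -/
def prodEquiv {α β : Type*} (f : α → ℕ) (g : β → ℕ) (d : ℕ) :
    {p : α × β // f p.1 + g p.2 = d} ≃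
      Σ q : {q : ℕ × ℕ // q ∈ Finset.antidiagonal d}, {x // f x = q.1.1} × {y // g y = q.1.2} where
  toFun p := ⟨⟨(f p.1.1, g p.1.2), Finset.mem_antidiagonal.mpr p.2⟩, ⟨p.1.1, rfl⟩, ⟨p.1.2, rfl⟩⟩
  invFun s := ⟨(s.2.1.1, s.2.2.1), by rw [s.2.1.2, s.2.2.2]; exact Finset.mem_antidiagonal.mp s.1.2⟩
  left_inv p := rfl
  right_inv := by
    rintro ⟨⟨⟨a, b⟩, hq⟩, ⟨x, hx⟩, ⟨y, hy⟩⟩
    dsimp only at hx hy
    subst hx hy
    rfl

theorem series_prod {α β : Type*} {f : α → ℕ} {g : β → ℕ} (hf : FinFib f) (hg : FinFib g) :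
    FinFib (fun p : α × β => f p.1 + g p.2) ∧ series (fun p : α × β => f p.1 + g p.2) = series f * series g := by
  have hfin : ∀ (d : ℕ) (q : ↥(Finset.antidiagonal d)), Finite ({x // f x = q.1.1} × {y // g y = q.1.2}) :=
    fun d q => have := hf q.1.1; have := hg q.1.2; inferInstance
  refine ⟨fun d => ?_, ?_⟩
  · have : ∀ q : ↥(Finset.antidiagonal d), Finite ({x // f x = q.1.1} × {y // g y = q.1.2}) := hfin d
    exact Finite.of_equiv _ (prodEquiv f g d).symm
  ext d
  have := hfin d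
  simp only [series, PowerSeries.coeff_mk, PowerSeries.coeff_mul]
  rw [Nat.card_congr (prodEquiv f g d), Nat.card_sigma]
  simp only [Nat.card_prod]
  push_cast
  exact Finset.sum_coe_sort (Finset.antidiagonal d) fun q => ((Nat.card {x // f x = q.1} : ℤ) * Nat.card {y // g y = q.2})

theorem series_equiv {α β : Type*} (e : α ≃ β) {f : β → ℕ} (hf : FinFib f) :
    FinFib (f ∘ e) ∧ series (f ∘ e) = series f := by
  have he : ∀ d, {x // f (e x) = d} ≃ {y // f y = d} := fun d => e.subtypeEquiv fun x => Iff.rfl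
  refine ⟨fun d => have := hf d; .of_equiv _ (he d).symm, ?_⟩
  ext d
  simp only [series, PowerSeries.coeff_mk]
  exact congrArg Nat.cast (Nat.card_congr (he d))

theorem series_sum_fin : ∀ n : ℕ, FinFib (fun m : Fin n → ℕ => ∑ i, m i) ∧
    series (fun m : Fin n → ℕ => ∑ i, m i) = (PowerSeries.mk fun _ => (1 : ℤ)) ^ n
  | 0 => by
    refine ⟨fun d => inferInstance, ?_⟩
    ext d
    simp only [series, PowerSeries.coeff_mk, pow_zero, PowerSeries.coeff_one]
    rcases eq_or_ne d 0 with rfl | hd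
    · simp
    · rw [if_neg hd, Nat.cast_eq_zero, Nat.card_eq_zero]
      exact Or.inl ⟨fun x => hd (by simpa using x.2.symm)⟩
  | n + 1 => by
    have hid : FinFib (id : ℕ → ℕ) := fun d => inferInstanceAs (Finite {x : ℕ // x = d})
    have hids : series (id : ℕ → ℕ) = PowerSeries.mk fun _ => (1 : ℤ) := by
      ext d; simp [series]
    obtain ⟨h1, h2⟩ := series_prod hid (series_sum_fin n).1
    let e : (Fin (n + 1) → ℕ) ≃ ℕ × (Fin n → ℕ) := (Fin.consEquiv fun _ => ℕ).symm
    have heq : (fun m : Fin (n + 1) → ℕ => ∑ i, m i) = (fun p : ℕ × (Fin n → ℕ) => id p.1 + ∑ i, p.2 i) ∘ e := by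
      funext m
      simp [e, Fin.sum_univ_succ, Fin.tail]
    obtain ⟨h3, h4⟩ := series_equiv e h1
    rw [heq]
    exact ⟨h3, by rw [h4, h2, hids, (series_sum_fin n).2, pow_succ']⟩

/-- The degree of a basis monomial of the curve algebra. -/
def monDeg {m : ℕ} : Def.B m → ℕ
  | none => 0
  | some (Sum.inl k) => k + 2
  | some (Sum.inr (_, k)) => k + 1

/-- Variables are `Fin m` plus two. -/
def cvarEquiv (m : ℕ) : CVar m ≃ Option (Option (Fin m)) where
  toFun | .x2 => none | .x3 => some none | .xi i => some (some i)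
  invFun | none => .x2 | some none => .x3 | some (some i) => .xi i
  left_inv x := by cases x <;> rfl
  right_inv x := by rcases x with _ | _ | _ <;> rfl

theorem series_monDeg (m : ℕ) : FinFib (monDeg (m := m)) ∧ series (monDeg (m := m)) =
    (PowerSeries.mk fun _ => (1 : ℤ)) * (1 + PowerSeries.C ((m : ℤ) + 1) * PowerSeries.X + PowerSeries.X ^ 2) := by
  have : Fintype (CVar m) := Fintype.ofEquiv _ (cvarEquiv m).symm
  have hcard : Nat.card (CVar m) = m + 2 := by
    rw [Nat.card_congr (cvarEquiv m), Nat.card_eq_fintype_card]; simp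
  have hcard' : Fintype.card (CVar m) = m + 2 := by rw [← Nat.card_eq_fintype_card, hcard]
  have e0 : {b : Def.B m // monDeg b = 0} ≃ Unit :=
    { toFun := fun _ => (), invFun := fun _ => ⟨none, rfl⟩, right_inv := fun _ => rfl
      left_inv := by
        rintro ⟨_ | k | ⟨u, k⟩, h⟩
        · rfl
        · exact absurd h (by simp [monDeg])
        · exact absurd h (by simp [monDeg]) }
  have e1 : {b : Def.B m // monDeg b = 1} ≃ CVar m :=
    { toFun := fun b => match b with
        | ⟨some (Sum.inr (u, _)), _⟩ => u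
        | ⟨none, h⟩ => absurd h (by simp [monDeg])
        | ⟨some (Sum.inl k), h⟩ => absurd h (by simp [monDeg])
      invFun := fun u => ⟨some (Sum.inr (u, 0)), rfl⟩, right_inv := fun _ => rfl
      left_inv := by
        rintro ⟨_ | k | ⟨u, k⟩, h⟩
        · exact absurd h (by simp [monDeg])
        · exact absurd h (by simp [monDeg])
        · obtain rfl : k = 0 := by change k + 1 = 1 at h; omega
          rfl }
  have e2 : ∀ d, {b : Def.B m // monDeg b = d + 2} ≃ Option (CVar m) := fun d =>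
    { toFun := fun b => match b with
        | ⟨some (Sum.inl _), _⟩ => none
        | ⟨some (Sum.inr (u, _)), _⟩ => some u
        | ⟨none, h⟩ => absurd h (by simp [monDeg])
      invFun := fun o => match o with
        | none => ⟨some (Sum.inl d), rfl⟩
        | some u => ⟨some (Sum.inr (u, d + 1)), rfl⟩
      right_inv := by rintro (_ | u) <;> rfl
      left_inv := by
        rintro ⟨_ | k | ⟨u, k⟩, h⟩
        · exact absurd h (by simp [monDeg])
        · obtain rfl : k = d := by change k + 2 = d + 2 at h; omega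
          rfl
        · obtain rfl : k = d + 1 := by change k + 1 = d + 2 at h; omega
          rfl }
  refine ⟨fun d => ?_, ?_⟩
  · rcases d with _ | _ | d
    · exact .of_equiv _ e0.symm
    · exact .of_equiv _ e1.symm
    · exact .of_equiv _ (e2 d).symm
  · ext d
    rw [mul_add, mul_add, mul_one, map_add, map_add, ← mul_assoc, mul_comm (PowerSeries.mk _) (PowerSeries.C _),
      mul_assoc, PowerSeries.coeff_C_mul]
    rcases d with _ | _ | d
    · simp [series, Nat.card_congr e0, PowerSeries.coeff_mul_X_pow', PowerSeries.coeff_zero_eq_constantCoeff]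
    · simp [series, Nat.card_congr e1, hcard', PowerSeries.coeff_mul_X_pow']; ring
    · simp [series, Nat.card_congr (e2 d), hcard', PowerSeries.coeff_mul_X_pow', PowerSeries.coeff_succ_mul_X]; ring

/-- A homogeneous basis with the prescribed Hilbert series. -/
structure HomBasis (m : ℕ) where
  ι : Type
  deg : ι → ℕ
  p : ι → MvPolynomial (UGen m) ℤ
  hom : ∀ i, IsWeightedHomogeneous uwt (p i) (deg i)
  B : Module.Basis ι ℤ (URing ℤ m)
  B_eq : ∀ i, B i = Ideal.Quotient.mk _ (p i)
  fin : FinFib deg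
  series_eq : series deg = uhilb m

theorem hom_X {m : ℕ} (g : UGen m) : IsWeightedHomogeneous uwt (X g : MvPolynomial (UGen m) ℤ) (uwt g) :=
  isWeightedHomogeneous_X ℤ uwt g

theorem IsWeightedHomogeneous.rename_castSucc {m d : ℕ} {p : MvPolynomial (UGen m) ℤ}
    (h : IsWeightedHomogeneous uwt p d) : IsWeightedHomogeneous uwt (rename UGen.castSucc p) d := by
  classical
  rw [p.as_sum, map_sum]
  refine IsWeightedHomogeneous.sum _ _ _ fun e he => ?_
  rw [rename_monomial]
  refine isWeightedHomogeneous_monomial _ _ _ ?_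
  rw [Finsupp.weight_apply, Finsupp.sum_mapDomain_index (by simp) (fun _ _ _ => by simp [add_mul])]
  rw [← h (mem_support_iff.mp he), Finsupp.weight_apply]
  exact Finsupp.sum_congr fun g _ => by cases g <;> rfl

theorem base_two : Nonempty (HomBasis 2) := by
  let gens : Fin 6 → UGen 2 := ![.a, .ci 0, .cbi 0, .ci 1, .cbi 1, .cij 0 1 Fin.zero_ne_one]
  let F : MvPolynomial (Fin 6) ℤ →ₐ[ℤ] URing ℤ 2 := aeval (R := ℤ) (S₁ := URing ℤ 2)
    ![ugen ℤ 2 .a, ugen ℤ 2 (.ci 0), ugen ℤ 2 (.cbi 0), ugen ℤ 2 (.ci 1), ugen ℤ 2 (.cbi 1),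
      ugen ℤ 2 (.cij 0 1 Fin.zero_ne_one)]
  let e : MvPolynomial (Fin 6) ℤ ≃ₐ[ℤ] URing ℤ 2 := AlgEquiv.ofBijective F Groth.Agent.S18247.result
  have hF : F = (Ideal.Quotient.mkₐ ℤ (Ideal.span (URel ℤ 2))).comp (rename gens) := by
    refine MvPolynomial.algHom_ext fun i => ?_
    rw [AlgHom.comp_apply, rename_X]
    simp only [F, aeval_X]
    fin_cases i <;> rfl
  let eidx : (Fin 6 → ℕ) ≃ (Fin 6 →₀ ℕ) := Finsupp.equivFunOnFinite.symm
  obtain ⟨h1, h2⟩ := series_sum_fin 6
  refine ⟨{
    ι := Fin 6 → ℕ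
    deg := fun m => ∑ i, m i
    p := fun m => rename gens (monomial (eidx m) 1)
    hom := fun m => ?_
    B := ((basisMonomials (Fin 6) ℤ).map e.toLinearEquiv).reindex eidx.symm
    B_eq := fun m => ?_
    fin := h1
    series_eq := ?_ }⟩
  · rw [rename_monomial]
    refine isWeightedHomogeneous_monomial _ _ _ ?_
    rw [Finsupp.weight_apply, Finsupp.sum_mapDomain_index (by simp) (fun _ _ _ => by simp [add_mul]),
      Finsupp.sum_fintype _ _ (by simp)]
    refine Finset.sum_congr rfl fun i _ => ?_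
    fin_cases i <;> simp [gens, uwt, eidx]
  · rw [Module.Basis.reindex_apply, Module.Basis.map_apply]
    show F _ = _
    rw [hF]
    simp
  · rw [h2, uhilb]; simp

theorem step {m : ℕ} (hm : 2 ≤ m) (H : HomBasis m) : Nonempty (HomBasis (m + 1)) := by
  have : NeZero m := ⟨by omega⟩
  obtain ⟨e, he1, he2⟩ := Tower.exists_equiv ℤ m
  obtain ⟨hLI, hsp⟩ := Iff.basis_of_rel (Tower.rel_ugen ℤ m)
  let C : Module.Basis (Def.B m) (URing ℤ m) (CurveAlg (URing ℤ m) m (ugen ℤ m)) := .mk hLI hsp.ge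
  let varP : CVar m → MvPolynomial (UGen (m + 1)) ℤ := fun u => match u with
    | .x2 => X (.ci (Fin.last m))
    | .x3 => X .a + X (.ci (Fin.last m)) + X (.cbi (Fin.last m))
    | .xi i => X (.cij i.castSucc (Fin.last m) (Fin.castSucc_lt_last i).ne)
  have hvarP : ∀ u, IsWeightedHomogeneous uwt (varP u) 1 := fun u => by
    cases u with
    | x2 => exact hom_X (UGen.ci (Fin.last m))
    | x3 =>
      show IsWeightedHomogeneous uwt (X UGen.a + X (UGen.ci (Fin.last m)) + X (UGen.cbi (Fin.last m)) : MvPolynomial (UGen (m + 1)) ℤ) 1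
      exact ((hom_X (m := m + 1) UGen.a).add (hom_X (UGen.ci (Fin.last m)))).add (hom_X (UGen.cbi (Fin.last m)))
    | xi i => exact hom_X (UGen.cij i.castSucc (Fin.last m) (Fin.castSucc_lt_last i).ne)
  have hvare : ∀ u, e (Tower.cx u) = Ideal.Quotient.mk _ (varP u) := fun u => by
    rw [he2]; cases u <;> simp only [Tower.fwdVar, varP, ugen, map_add]
  let monP : Def.B m → MvPolynomial (UGen (m + 1)) ℤ := fun b => match b with
    | none => 1
    | some (Sum.inl k) => varP .x2 ^ (k + 1) * varP .x3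
    | some (Sum.inr (u, k)) => varP u ^ (k + 1)
  have hmonP : ∀ b, IsWeightedHomogeneous uwt (monP b) (monDeg b) := fun b => by
    rcases b with _ | k | ⟨u, k⟩
    · exact isWeightedHomogeneous_one ℤ uwt
    · have := ((hvarP .x2).pow (k + 1)).mul (hvarP .x3)
      simpa [monP, monDeg] using this
    · have := (hvarP u).pow (k + 1)
      simpa [monP, monDeg] using this
  have hmone : ∀ b, e (cmon (URing ℤ m) m (ugen ℤ m) b) = Ideal.Quotient.mk _ (monP b) := fun b => by
    rcases b with _ | k | ⟨u, k⟩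
    · simp [cmon, monP]
    · simp only [cmon, monP, map_mul, map_pow, ← hvare, Tower.cx]
    · simp only [cmon, monP, map_pow, ← hvare, Tower.cx]
  obtain ⟨hs1, hs2⟩ := series_prod H.fin (series_monDeg m).1
  refine ⟨{
    ι := H.ι × Def.B m
    deg := fun p => H.deg p.1 + monDeg p.2
    p := fun p => rename UGen.castSucc (H.p p.1) * monP p.2
    hom := fun p => (IsWeightedHomogeneous.rename_castSucc (H.hom p.1)).mul (hmonP p.2)
    B := (H.B.smulTower C).map e.toAddEquiv.toIntLinearEquiv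
    B_eq := fun p => ?_
    fin := hs1
    series_eq := ?_ }⟩
  · rw [Module.Basis.map_apply, Module.Basis.smulTower_apply]
    show e (H.B p.1 • C p.2) = _
    rw [Module.Basis.mk_apply]
    refine (congrArg e (Algebra.smul_def (R := URing ℤ m) (A := CurveAlg (URing ℤ m) m (ugen ℤ m)) (H.B p.1)
      (cmon (URing ℤ m) m (ugen ℤ m) p.2))).trans ?_
    rw [map_mul, he1, hmone, H.B_eq, map_mul]
    rfl
  · rw [hs2, H.series_eq, (series_monDeg m).2, uhilb, uhilb, Finset.prod_Icc_succ_top (by omega : 3 ≤ m + 1)]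
    push_cast
    ring

theorem exists_homBasis {m : ℕ} (hm : 2 ≤ m) : Nonempty (HomBasis m) := by
  induction m, hm using Nat.le_induction with
  | base => exact base_two
  | succ n hn ih => exact ih.elim (step hn)

/-- The Hilbert series theorem. -/
theorem free_internal_rank {m : ℕ} (hm : 2 ≤ m) :
    Module.Free ℤ (URing ℤ m) ∧ DirectSum.IsInternal (upiece ℤ m) ∧
      ∀ d : ℕ, (Module.finrank ℤ (upiece ℤ m d) : ℤ) = PowerSeries.coeff d (uhilb m) := by
  classical
  obtain ⟨H⟩ := exists_homBasis hm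
  let _ : GradedAlgebra (weightedHomogeneousSubmodule ℤ (uwt (m := m))) := weightedGradedAlgebra ℤ uwt
  have hXg : ∀ g : UGen m, X g ∈ weightedHomogeneousSubmodule ℤ (uwt (m := m)) (uwt g) := fun g => hom_X g
  let 𝒜 := weightedHomogeneousSubmodule ℤ (uwt (m := m))
  have ha : X UGen.a ∈ 𝒜 1 := hXg .a
  have hc : X UGen.c ∈ 𝒜 2 := hXg .c
  have hcb : X UGen.cb ∈ 𝒜 2 := hXg .cb
  have hci : ∀ i, X (UGen.ci i) ∈ 𝒜 1 := fun i => hXg (.ci i)
  have hcbi : ∀ i, X (UGen.cbi i) ∈ 𝒜 1 := fun i => hXg (.cbi i)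
  have hij : ∀ i j h, X (UGen.cij i j h) ∈ 𝒜 1 := fun i j h => hXg (.cij i j h)
  have mul2 : ∀ {p q : MvPolynomial (UGen m) ℤ}, p ∈ 𝒜 1 → q ∈ 𝒜 1 → p * q ∈ 𝒜 2 := fun {p q} hp hq =>
    IsWeightedHomogeneous.mul (R := ℤ) hp hq
  have hJ : GrQuot.IsHomog (weightedHomogeneousSubmodule ℤ (uwt (m := m))) (Ideal.span (URel ℤ m)) := by
    rw [GrQuot.isHomog_iff]
    refine Ideal.homogeneous_span _ _ fun x hx => ?_
    rcases hx with ((⟨q, rfl⟩ | ⟨q, rfl⟩) | ⟨q, rfl⟩) | ⟨q, rfl⟩
    · exact ⟨1, sub_mem (add_mem (hij _ _ _) (hij _ _ _)) (add_mem (add_mem (add_mem (add_mem ha (hci _)) (hcbi _)) (hci _)) (hcbi _))⟩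
    · exact ⟨2, sub_mem (sub_mem (add_mem (mul2 (hij _ _ _) (hci _)) (mul2 (hij _ _ _) (hci _))) (mul2 (hci _) (hci _))) hc⟩
    · exact ⟨2, sub_mem (sub_mem (add_mem (mul2 (hij _ _ _) (hcbi _)) (mul2 (hij _ _ _) (hcbi _))) (mul2 (hcbi _) (hcbi _))) hcb⟩
    · exact ⟨2, sub_mem (add_mem (sub_mem (add_mem (mul2 (hij _ _ _) (hij _ _ _)) (mul2 (hij _ _ _) (hij _ _ _)))
        (mul2 (hij _ _ _) (hij _ _ _))) (mul2 (add_mem (add_mem ha (hci _)) (hcbi _)) (hci _))) hc⟩
  have hint : DirectSum.IsInternal (upiece ℤ m) :=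
    DirectSum.Decomposition.isInternal (GrQuot.quot (weightedHomogeneousSubmodule ℤ (uwt (m := m))) (Ideal.span (URel ℤ m)))
  refine ⟨Module.Free.of_basis H.B, hint, fun d => ?_⟩
  let S : Submodule ℤ (URing ℤ m) := Submodule.span ℤ (Set.range fun i : {i // H.deg i = d} => H.B i)
  have hBmem : ∀ i, H.B i ∈ upiece ℤ m (H.deg i) := fun i => ⟨H.p i, H.hom i, (H.B_eq i).symm⟩
  have hSd : S ≤ upiece ℤ m d := Submodule.span_le.mpr (Set.range_subset_iff.mpr fun i => by
    have := hBmem i.1; rw [i.2] at this; exact this)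
  let S' : Submodule ℤ (URing ℤ m) := Submodule.span ℤ (Set.range fun i : {i // H.deg i ≠ d} => H.B i)
  have hS' : S' ≤ ⨆ (j) (_ : j ≠ d), upiece ℤ m j := Submodule.span_le.mpr (Set.range_subset_iff.mpr fun i =>
    Submodule.mem_iSup_of_mem _ (Submodule.mem_iSup_of_mem i.2 (hBmem i.1)))
  have htop : S ⊔ S' = ⊤ := by
    rw [eq_top_iff, ← H.B.span_eq, Submodule.span_le]
    rintro _ ⟨i, rfl⟩
    by_cases h : H.deg i = d
    · exact Submodule.mem_sup_left (Submodule.subset_span ⟨⟨i, h⟩, rfl⟩)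
    · exact Submodule.mem_sup_right (Submodule.subset_span ⟨⟨i, h⟩, rfl⟩)
  have hle : upiece ℤ m d ≤ S := by
    intro x hx
    obtain ⟨s, hs, t, ht, rfl⟩ := Submodule.mem_sup.mp (htop.ge (trivial : x ∈ ⊤))
    have htd : t ∈ upiece ℤ m d := by
      have := sub_mem hx (hSd hs)
      rwa [add_sub_cancel_left] at this
    have : t = 0 := Submodule.disjoint_def.mp (hint.submodule_iSupIndep d) t htd (hS' ht)
    rw [this, add_zero]; exact hs
  rw [le_antisymm hle hSd]
  have hli : LinearIndependent ℤ (fun i : {i // H.deg i = d} => H.B i) :=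
    H.B.linearIndependent.comp _ Subtype.val_injective
  have := H.fin d
  have := Fintype.ofFinite {i // H.deg i = d}
  rw [← H.series_eq, series, PowerSeries.coeff_mk, Nat.card_eq_fintype_card]
  exact congrArg Nat.cast (finrank_span_eq_card hli)

end Groth.Agent.Lib.CurveAlg.Hilbert
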