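import Groth.Agent.Lib.CurveAlg.Iota
import Groth.Agent.Lib.CurveAlg.Comm

/-!
# The monomials form a basis iff the relations of `U_n` hold
-/

namespace Groth.Agent.Lib.CurveAlg.Iff

open W4c5m1nsnscurves Def Chain Iota Comm
open Finsupp (single linearCombination)

universe u

variable {R : Type u} [CommRing R] {m : ℕ} [NeZero m] {v : UGen m → R}

theorem cmon_eq : cmon R m v = fun b => Ideal.Quotient.mk (Ideal.span (CRel R m v)) (mon R m b) :=
  funext fun b => by
    rcases b with _ | k | ⟨w, k⟩
    · exact (map_one _).symm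
    · rfl
    · rfl

theorem pow_T_E (u : CVar m) (k : ℕ) : (T v u ^ (k + 1)) E = Q u k := by
  induction k with
  | zero => simp
  | succ k ih =>
    rw [pow_succ', Module.End.mul_apply, ih]
    by_cases hu : u = .x2
    · subst hu; simp [base]
    · exact T_Q_self v hu k

theorem basis_of_rel (h : Rel v) :
    LinearIndependent R (cmon R m v) ∧ Submodule.span R (Set.range (cmon R m v)) = ⊤ := by
  rw [cmon_eq]
  refine Ops.linearIndependent_and_span (T v) (comm h) (CRel R m v) none (mon R m) (map_one _) (fun u b => ι_T_mon v u b) ?_ ?_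
  · rintro p ((⟨i, rfl⟩ | ⟨i, rfl⟩) | ⟨q, rfl⟩)
    all_goals
      show (Ops.act (T v) (comm h)) _ E = 0
      simp only [map_sub, map_add, map_mul, Ops.act_X, ← MvPolynomial.algebraMap_eq, AlgHom.commutes,
        LinearMap.sub_apply, LinearMap.add_apply, Module.End.mul_apply, Module.algebraMap_end_apply, T_E, T_Q_zero, base,
        map_sub, map_add, map_mul, map_smul]
    · match_scalars <;> ring1
    · match_scalars <;> (try simp only [al]) <;> ring1
    · simp only [q.2, ↓reduceDIte]
      match_scalars <;> ring1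
  · intro b
    show (Ops.act (T v) (comm h)) (mon R m b) E = single b 1
    rcases b with _ | k | ⟨w, k⟩
    · simp [mon, E]
    · simp only [mon, map_mul, map_pow, Ops.act_X, Module.End.mul_apply, T_E]
      change _ = P k
      induction k with
      | zero => simp [base]
      | succ k ih => rw [pow_succ', Module.End.mul_apply, ih]; simp [base]
    · simp only [mon, map_pow, Ops.act_X, pow_T_E]; rfl

theorem rel_of_linearIndependent (h : LinearIndependent R (cmon R m v)) : Rel v := by
  classical
  rw [cmon_eq] at h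
  have hinj : Function.Injective (ι v) := h.finsuppLinearCombination_injective
  have hmem : ∀ u w : CVar m, u ≠ w → T v u (Q w 0) ∈ W := fun u w huw => by
    rw [T_Q_zero]; exact base_zero_mem v u w (Or.inl huw)
  have key : ∀ u w l : CVar m, w ≠ l → u ≠ l → T v u (T v w (Q l 0)) = T v w (T v u (Q l 0)) :=
    fun u w l hwl hul => hinj <| by
      rw [ι_T_W v u (hmem w l hwl), ι_T_W v w (hmem u l hul), ι_T_W v w (Q0_mem l), ι_T_W v u (Q0_mem l)]
      ring
  have hpair : ∀ i j : Fin m, ∀ hij : i ≠ j,
      v (.cij i j hij) + v (.cij j i hij.symm) = al v i + v (.ci j) + v (.cbi j) ∧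
      v (.cij i j hij) * v (.ci j) = v (.ci j) * v (.cij i j hij) + 0 ∧
      v (.cij j i hij.symm) * v (.ci j) + v (.cij i j hij) * v (.ci i) - v (.ci i) * v (.ci j) = v .c ∧
      v (.cij j i hij.symm) * v (.cbi i) + v (.cij i j hij) * v (.cbi j) - v (.cbi i) * v (.cbi j) = v .cb := by
    intro i j hij
    have h' := key .x2 (.xi i) (.xi j) (by simpa using hij) (by simp)
    simp [base, xp, xz, hij] at h'
    have h1 := congrArg (fun f => f (some (Sum.inl 0))) h'
    have h2 := congrArg (fun f => f (some (Sum.inr (CVar.xi j, 0)))) h'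
    have h3 := congrArg (fun f => f (some (Sum.inr (CVar.x2, 0)))) h'
    have h4 := congrArg (fun f => f (some (Sum.inr (CVar.xi i, 0)))) h'
    simp [P, Q, E, hij, hij.symm] at h1 h2 h3 h4
    simp only [al] at *
    refine ⟨?_, by ring, ?_, ?_⟩
    · linear_combination h1
    · linear_combination -h4 + (v (.ci i)) * h1
    · linear_combination h3
  refine ⟨fun i j hij => (hpair i j hij).1, fun i j hij => (hpair i j hij).2.2.1,
    fun i j hij => (hpair i j hij).2.2.2, fun i j k h₁ h₂ h₃ => ?_⟩
  have h' := key (.xi k) (.xi i) (.xi j) (by simpa using h₁) (by simpa using h₂.symm)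
  simp [base, xp, xz, h₁, h₁.symm, h₂, h₂.symm, h₃, h₃.symm] at h'
  have h1 := congrArg (fun f => f (some (Sum.inr (CVar.xi k, 0)))) h'
  simp [P, Q, E, h₁, h₁.symm, h₂, h₂.symm, h₃, h₃.symm] at h1
  linear_combination h1

end Groth.Agent.Lib.CurveAlg.Iff
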