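import Groth.Agent.Lib.CurveAlg.Chain

/-!
# The operators compute multiplication in the curve algebra
-/

namespace Groth.Agent.Lib.CurveAlg.Iota

open W4c5m1nsnscurves Def
open Finsupp (single linearCombination)

universe u

set_option linter.unusedSectionVars false
variable {R : Type u} [CommRing R] {m : ℕ} [NeZero m] (v : UGen m → R)

/-- The class of a variable. -/
noncomputable def var (u : CVar m) : CurveAlg R m v := Ideal.Quotient.mk (Ideal.span (CRel R m v)) (MvPolynomial.X u)

/-- The class of a constant. -/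
noncomputable def cst : R →+* CurveAlg R m v :=
  (Ideal.Quotient.mk (Ideal.span (CRel R m v))).comp MvPolynomial.C

/-- Evaluation of coordinate vectors. -/
noncomputable def ι : (B m →₀ R) →ₗ[R] CurveAlg R m v :=
  linearCombination R fun b => Ideal.Quotient.mk (Ideal.span (CRel R m v)) (mon R m b)

@[simp] theorem ι_E : ι v E = 1 := by simp [ι, E, mon]
@[simp] theorem ι_P (k : ℕ) : ι v (P k) = var v .x2 ^ (k + 1) * var v .x3 := by simp [ι, P, mon, var]
@[simp] theorem ι_Q (u : CVar m) (k : ℕ) : ι v (Q u k) = var v u ^ (k + 1) := by simp [ι, Q, mon, var]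
@[simp] theorem smul_eq (r : R) (z : CurveAlg R m v) : r • z = cst v r * z := Algebra.smul_def r z

@[simp] theorem ι_xp (k : ℕ) : ι v (xp k) = var v .x2 ^ k := by cases k <;> simp [xp]
@[simp] theorem ι_xpy (k : ℕ) : ι v (xpy k) = var v .x2 ^ k * var v .x3 := by cases k <;> simp [xpy]

theorem x_xi (i : Fin m) : var v .x2 * var v (.xi i) =
    var v .x2 * var v .x3 + cst v (v (.ci i)) * var v (.xi i) + cst v (v (.cbi i)) * var v .x2 - cst v (v .c) := by
  have h : Ideal.Quotient.mk (Ideal.span (CRel R m v)) _ = 0 :=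
    Ideal.Quotient.eq_zero_iff_mem.mpr (Ideal.subset_span (Or.inl (Or.inl ⟨i, rfl⟩)))
  simp only [map_sub, map_add, map_mul] at h
  exact sub_eq_zero.mp h

theorem y_xi (i : Fin m) : var v .x3 * var v (.xi i) =
    var v .x2 * var v .x3 + cst v (al v i) * var v (.xi i) +
      (cst v (v .cb) - cst v (v .c) - cst v (al v i) * cst v (v (.cbi i))) := by
  have h : Ideal.Quotient.mk (Ideal.span (CRel R m v)) _ = 0 :=
    Ideal.Quotient.eq_zero_iff_mem.mpr (Ideal.subset_span (Or.inl (Or.inr ⟨i, rfl⟩)))
  simp only [map_sub, map_add, map_mul, var] at h ⊢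
  simp only [cst, al, map_add, RingHom.coe_comp, Function.comp_apply] at h ⊢
  linear_combination h

theorem xi_xj (i j : Fin m) (h : i ≠ j) : var v (.xi i) * var v (.xi j) =
    var v .x2 * var v .x3 + cst v (v (.cij i j h)) * var v (.xi j) +
      cst v (v (.cij j i (Ne.symm h))) * var v (.xi i) - cst v (v .c) := by
  have h' : Ideal.Quotient.mk (Ideal.span (CRel R m v)) _ = 0 :=
    Ideal.Quotient.eq_zero_iff_mem.mpr (Ideal.subset_span (Or.inr ⟨⟨(i, j), h⟩, rfl⟩))
  simp only [map_sub, map_add, map_mul] at h'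
  exact sub_eq_zero.mp h'

theorem x_yy (i : Fin m) : var v .x2 * var v .x3 ^ 2 =
    var v .x2 ^ 2 * var v .x3 + cst v (v .a) * (var v .x2 * var v .x3) +
      (cst v (v .cb) - cst v (v .c)) * var v .x2 + cst v (v .c) * var v .x3 + cst v (dd v i) := by
  have h1 := x_xi v i
  have h2 := y_xi v i
  simp only [dd, al, map_add, map_sub, map_mul] at h2 ⊢
  linear_combination (-var v .x3 + cst v (v .a) + cst v (v (.ci i)) + cst v (v (.cbi i))) * h1 +
    (var v .x2 - cst v (v (.ci i))) * h2

@[simp] theorem ι_xz (i : Fin m) (k : ℕ) : ι v (xz v i k) = var v .x2 ^ k * var v (.xi i) := by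
  induction k with
  | zero => simp [xz]
  | succ k ih =>
    simp only [xz, map_sub, map_add, map_smul, ih, ι_P, ι_Q, ι_xp, smul_eq]
    linear_combination -(var v .x2 ^ k) * x_xi v i

theorem ι_base (u : CVar m) : ι v (base v u none) = var v u ∧
    (∀ k, ι v (base v u (some (Sum.inl k))) = var v u * (var v .x2 ^ (k + 1) * var v .x3)) ∧
    (∀ k, ι v (base v u (some (Sum.inr (.x2, k)))) = var v u * var v .x2 ^ (k + 1)) ∧
    (∀ w, ι v (base v u (some (Sum.inr (w, 0)))) = var v u * var v w) := by
  refine ⟨by simp [base], fun k => ?_, fun k => ?_, fun w => ?_⟩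
  · cases u with
    | x2 => simp [base]; ring
    | x3 => simp [base]; linear_combination -(var v .x2 ^ k) * x_yy v 0
    | xi i =>
      simp only [base, map_sub, map_add, map_smul, ι_P, ι_Q, ι_xp, ι_xz, smul_eq, map_mul]
      linear_combination -(var v .x2 ^ (k + 1)) * y_xi v i - (var v .x2 ^ k) * cst v (al v i) * x_xi v i
  · cases u with
    | x2 => simp [base]; ring
    | x3 => simp [base]; ring
    | xi i => simp [base]; ring
  · cases u with
    | x2 =>
      cases w with
      | x2 => simp [base]; ring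
      | x3 => simp [base]
      | xi i => simp [base]; linear_combination -x_xi v i
    | x3 =>
      cases w with
      | x2 => simp [base]; ring
      | x3 => simp [base]; ring
      | xi i => simp [base]; linear_combination -y_xi v i
    | xi i =>
      cases w with
      | x2 => simp [base]; ring
      | x3 => simp [base]; linear_combination -y_xi v i
      | xi j =>
        by_cases h : i = j
        · subst h; simp [base]; ring
        · simp [base, h]; linear_combination -xi_xj v i j h

theorem ι_T_W (u : CVar m) {f : B m →₀ R} (hf : f ∈ Chain.W) : ι v (T v u f) = var v u * ι v f := by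
  obtain ⟨h0, h1, h2, h3⟩ := ι_base v u
  induction hf using Submodule.span_induction with
  | mem g hg =>
    rcases hg with ((rfl | ⟨k, rfl⟩) | ⟨k, rfl⟩) | ⟨w, rfl⟩
    · rw [T_E]; simp
    · rw [T_P, h1, ι_P]
    · rw [T_Qx, h2, ι_Q]
    · rw [T_Q_zero, h3, ι_Q, pow_one]
  | zero => simp
  | add g g' _ _ hg hg' => rw [map_add, map_add, map_add, hg, hg', mul_add]
  | smul r g _ hg => rw [map_smul, map_smul, map_smul, hg, mul_smul_comm]

theorem ι_T_V {w : CVar m} (hw : w ≠ .x2) {f : B m →₀ R} (hf : f ∈ Chain.V w) : ι v (T v w f) = var v w * ι v f := by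
  induction hf using Submodule.span_induction with
  | mem g hg =>
    rcases hg with hg | ⟨k, rfl⟩
    · exact ι_T_W v w (Submodule.subset_span hg)
    · rw [T_Q_self v hw, ι_Q, ι_Q]; ring
  | zero => simp
  | add g g' _ _ hg hg' => rw [map_add, map_add, map_add, hg, hg', mul_add]
  | smul r g _ hg => rw [map_smul, map_smul, map_smul, hg, mul_smul_comm]

theorem ι_T_Q (u w : CVar m) (k : ℕ) : ι v (T v u (Q w k)) = var v u * var v w ^ (k + 1) := by
  by_cases hw : w = .x2
  · subst hw; rw [ι_T_W v u (Chain.Qx_mem k), ι_Q]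
  induction k with
  | zero => rw [ι_T_W v u (Chain.Q0_mem w), ι_Q]
  | succ k ih => rw [Chain.T_Q_succ' v u hw, ι_T_V v hw (Chain.T_Q_mem_V v u hw k), ih]; ring

theorem ι_T_mon (u : CVar m) (b : B m) :
    ι v (T v u (single b 1)) = Ideal.Quotient.mk (Ideal.span (CRel R m v)) (MvPolynomial.X u * mon R m b) := by
  rcases b with _ | k | ⟨w, k⟩
  · change ι v (T v u E) = _; simp [mon, var]
  · change ι v (T v u (P k)) = _; rw [T_P, (ι_base v u).2.1]; simp [mon, var]
  · change ι v (T v u (Q w k)) = _; rw [ι_T_Q]; simp [mon, var]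

end Groth.Agent.Lib.CurveAlg.Iota
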