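import Groth.Agent.Lib.CurveAlg.Tower
import Mathlib.RingTheory.Ideal.Cotangent
import Mathlib.Algebra.TrivSqZeroExt.Ideal
import Mathlib.LinearAlgebra.Dimension.Constructions
import Mathlib.Data.Finset.Card
import Mathlib.Data.Sym.Card

/-!
# Weight-one generators and the tangent space at the origin
-/

namespace Groth.Agent.Lib.CurveAlg.Tangent

open W4c5m1nsnscurves

universe u

variable (R : Type u) [CommRing R] (m : ℕ)

/-- Indices of the weight-one generators. -/
abbrev S := Unit ⊕ Fin m ⊕ Fin m ⊕ {q : Fin m × Fin m // q.1 < q.2}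

/-- The weight-one generators. -/
def gen : S m → UGen m
  | .inl _ => .a
  | .inr (.inl i) => .ci i
  | .inr (.inr (.inl i)) => .cbi i
  | .inr (.inr (.inr q)) => .cij q.1.1 q.1.2 (ne_of_lt q.2)

theorem rel' : Comm.Rel (R := URing R m) (ugen R m) := Tower.rel_ugen R m

theorem adjoin_eq_top (hm : 2 ≤ m) : Algebra.adjoin R (Set.range fun s => ugen R m (gen m s)) = ⊤ := by
  set A := Algebra.adjoin R (Set.range fun s => ugen R m (gen m s))
  have h := rel' R m
  have hg : ∀ s, ugen R m (gen m s) ∈ A := fun s => Algebra.subset_adjoin ⟨s, rfl⟩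
  have ha : ugen R m .a ∈ A := hg (.inl ())
  have hci : ∀ i, ugen R m (.ci i) ∈ A := fun i => hg (.inr (.inl i))
  have hcbi : ∀ i, ugen R m (.cbi i) ∈ A := fun i => hg (.inr (.inr (.inl i)))
  have hcij : ∀ i j hij, ugen R m (.cij i j hij) ∈ A := fun i j hij => by
    rcases lt_or_gt_of_ne hij with hlt | hgt
    · exact hg (.inr (.inr (.inr ⟨(i, j), hlt⟩)))
    · have hji := hg (.inr (.inr (.inr ⟨(j, i), hgt⟩)))
      have e := h.lin i j hij
      rw [show ugen R m (.cij i j hij) = ugen R m .a + ugen R m (.ci i) + ugen R m (.cbi i) + ugen R m (.ci j) +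
        ugen R m (.cbi j) - ugen R m (.cij j i (Ne.symm hij)) by simp only [Def.al] at e; linear_combination e]
      exact sub_mem (add_mem (add_mem (add_mem (add_mem ha (hci i)) (hcbi i)) (hci j)) (hcbi j)) hji
  have h01 : (⟨0, by omega⟩ : Fin m) ≠ ⟨1, by omega⟩ := by simp
  have hall : ∀ g, ugen R m g ∈ A := by
    intro g
    cases g with
    | a => exact ha
    | ci i => exact hci i
    | cbi i => exact hcbi i
    | cij i j hij => exact hcij i j hij
    | c =>
      rw [← h.quad _ _ h01]
      exact sub_mem (add_mem (mul_mem (hcij _ _ _) (hci _)) (mul_mem (hcij _ _ _) (hci _))) (mul_mem (hci _) (hci _))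
    | cb =>
      rw [← h.quad' _ _ h01]
      exact sub_mem (add_mem (mul_mem (hcij _ _ _) (hcbi _)) (mul_mem (hcij _ _ _) (hcbi _))) (mul_mem (hcbi _) (hcbi _))
  rw [eq_top_iff]
  intro x _
  obtain ⟨p, rfl⟩ := Ideal.Quotient.mk_surjective x
  induction p using MvPolynomial.induction_on with
  | C r => exact A.algebraMap_mem r
  | add p q hp hq => rw [map_add]; exact add_mem (hp trivial) (hq trivial)
  | mul_X p g hp => rw [map_mul]; exact mul_mem (hp trivial) (hall g)

variable (k : Type u) [Field k]

open scoped Classical in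
/-- The linear parts of the generators. -/
noncomputable def lin : UGen m → (S m → k)
  | .a => Pi.single (.inl ()) 1
  | .c => 0
  | .cb => 0
  | .ci i => Pi.single (.inr (.inl i)) 1
  | .cbi i => Pi.single (.inr (.inr (.inl i))) 1
  | .cij i j hij => if h : i < j then Pi.single (.inr (.inr (.inr ⟨(i, j), h⟩))) 1 else
      Pi.single (.inl ()) 1 + Pi.single (.inr (.inl i)) 1 + Pi.single (.inr (.inr (.inl i))) 1 +
        Pi.single (.inr (.inl j)) 1 + Pi.single (.inr (.inr (.inl j))) 1 -
        Pi.single (.inr (.inr (.inr ⟨(j, i), lt_of_le_of_ne (not_lt.mp h) (Ne.symm hij)⟩))) 1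

open scoped Classical in
theorem lin_rel {i j : Fin m} (hij : i ≠ j) :
    lin m k (.cij i j hij) + lin m k (.cij j i (Ne.symm hij)) =
      lin m k .a + lin m k (.ci i) + lin m k (.cbi i) + lin m k (.ci j) + lin m k (.cbi j) := by
  rcases lt_or_gt_of_ne hij with h | h
  · simp only [lin, h, not_lt.mpr h.le, ↓reduceDIte]; abel
  · simp only [lin, h, not_lt.mpr h.le, ↓reduceDIte]; abel

/-- Values in the square-zero extension. -/
noncomputable def eps (g : UGen m) : TrivSqZeroExt k (S m → k) := TrivSqZeroExt.inr (lin m k g)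

theorem eps_rel : Comm.Rel (R := TrivSqZeroExt k (S m → k)) (eps m k) := by
  refine ⟨fun i j h => ?_, fun i j h => ?_, fun i j h => ?_, fun i j l h₁ h₂ h₃ => ?_⟩
  · simp only [Def.al, eps, ← TrivSqZeroExt.inr_add, lin_rel m k h]
  · simp [eps, lin]
  · simp [eps, lin]
  · simp [Def.al, eps, lin, add_mul]

/-- The linearisation at the origin. -/
noncomputable def φ : URing k m →ₐ[k] TrivSqZeroExt k (S m → k) :=
  Ideal.Quotient.liftₐ _ (MvPolynomial.aeval (eps m k)) fun p hp => by
    have hle : Ideal.span (URel k m) ≤ RingHom.ker (MvPolynomial.aeval (R := k) (eps m k)).toRingHom := by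
      rw [Ideal.span_le]
      intro q hq
      rw [SetLike.mem_coe, RingHom.mem_ker]
      have h := eps_rel m k
      obtain (((⟨q, rfl⟩ | ⟨q, rfl⟩) | ⟨q, rfl⟩) | ⟨q, rfl⟩) := hq <;>
        simp only [AlgHom.toRingHom_eq_coe, RingHom.coe_coe, map_sub, map_add, map_mul, MvPolynomial.aeval_X]
      · have := h.lin _ _ q.2; simp only [Def.al] at this; linear_combination this
      · linear_combination h.quad _ _ q.2
      · linear_combination h.quad' _ _ q.2
      · have := h.tri _ _ _ q.2.1 q.2.2.1 q.2.2.2; simp only [Def.al] at this; linear_combination this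
    exact hle hp

theorem φ_ugen (g : UGen m) : φ m k (ugen k m g) = eps m k g := by
  show MvPolynomial.aeval (eps m k) (MvPolynomial.X g) = _
  exact MvPolynomial.aeval_X _ _

theorem fst_φ {x : URing k m} (hx : x ∈ uorigin k m) : TrivSqZeroExt.fst (φ m k x) = 0 := by
  induction hx using Submodule.span_induction with
  | mem y hy => obtain ⟨g, rfl⟩ := hy; rw [φ_ugen]; rfl
  | zero => simp
  | add y z _ _ hy hz => simp [hy, hz]
  | smul r y _ hy => simp [hy]

theorem exists_const (x : URing k m) : ∃ c : k, x - algebraMap k _ c ∈ uorigin k m := by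
  obtain ⟨p, rfl⟩ := Ideal.Quotient.mk_surjective x
  induction p using MvPolynomial.induction_on with
  | C r =>
    refine ⟨r, ?_⟩
    have : Ideal.Quotient.mk (Ideal.span (URel k m)) (MvPolynomial.C r) - algebraMap k _ r = 0 := sub_self _
    rw [this]; exact zero_mem _
  | add p q hp hq =>
    obtain ⟨a, ha⟩ := hp; obtain ⟨b, hb⟩ := hq
    refine ⟨a + b, ?_⟩
    rw [map_add, map_add, add_sub_add_comm]
    exact add_mem ha hb
  | mul_X p g hp =>
    refine ⟨0, ?_⟩
    rw [map_zero, sub_zero, map_mul]
    exact Ideal.mul_mem_left _ _ (Ideal.subset_span ⟨g, rfl⟩)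

/-- The classes of the generators in the cotangent space. -/
noncomputable def cls (g : UGen m) : (uorigin k m).Cotangent :=
  (uorigin k m).toCotangent ⟨ugen k m g, Ideal.subset_span ⟨g, rfl⟩⟩

theorem finrank_cotangent (hm : 2 ≤ m) : Module.finrank k (uorigin k m).Cotangent = (m + 2) * (m + 1) / 2 := by
  classical
  set I := uorigin k m with hI
  have hgen : ∀ s, lin m k (gen m s) = Pi.single s 1 := by
    rintro (_ | _ | _ | ⟨⟨i, j⟩, hij⟩)
    · rfl
    · rfl
    · rfl
    · simp only [gen, lin, show i < j from hij, ↓reduceDIte]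
  let T := Submodule.span k (Set.range fun s => cls m k (gen m s))
  have h2 : ∀ (x : URing k m) (hx : x ∈ I), x ∈ I ^ 2 → I.toCotangent ⟨x, hx⟩ = 0 := fun x hx h => (I.toCotangent_eq_zero _).mpr h
  have hmem : ∀ g, ugen k m g ∈ I := fun g => Ideal.subset_span ⟨g, rfl⟩
  have hmul : ∀ g g', ugen k m g * ugen k m g' ∈ I ^ 2 := fun g g' => by
    rw [pow_two]; exact Ideal.mul_mem_mul (hmem g) (hmem g')
  have h := rel' k m
  have h01 : (⟨0, by omega⟩ : Fin m) ≠ ⟨1, by omega⟩ := by simp
  have hT : ∀ g, cls m k g ∈ T := by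
    intro g
    have hS : ∀ s, cls m k (gen m s) ∈ T := fun s => Submodule.subset_span ⟨s, rfl⟩
    cases g with
    | a => exact hS (.inl ())
    | ci i => exact hS (.inr (.inl i))
    | cbi i => exact hS (.inr (.inr (.inl i)))
    | c =>
      have h0 : cls m k UGen.c = 0 := h2 _ (hmem _) (by rw [← h.quad _ _ h01]; exact sub_mem (add_mem (hmul _ _) (hmul _ _)) (hmul _ _))
      rw [h0]; exact zero_mem _
    | cb =>
      have h0 : cls m k UGen.cb = 0 := h2 _ (hmem _) (by rw [← h.quad' _ _ h01]; exact sub_mem (add_mem (hmul _ _) (hmul _ _)) (hmul _ _))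
      rw [h0]; exact zero_mem _
    | cij i j hij =>
      rcases lt_or_gt_of_ne hij with hlt | hgt
      · exact hS (.inr (.inr (.inr ⟨(i, j), hlt⟩)))
      · have e := h.lin i j hij
        have he : cls m k (.cij i j hij) = cls m k .a + cls m k (.ci i) + cls m k (.cbi i) + cls m k (.ci j) +
            cls m k (.cbi j) - cls m k (.cij j i (Ne.symm hij)) := by
          simp only [cls, ← map_add, ← map_sub]
          congr 1
          apply Subtype.ext
          simp only [Def.al] at e
          push_cast
          linear_combination e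
        rw [he]
        exact sub_mem (add_mem (add_mem (add_mem (add_mem (hS (.inl ())) (hS (.inr (.inl i)))) (hS (.inr (.inr (.inl i)))))
          (hS (.inr (.inl j)))) (hS (.inr (.inr (.inl j))))) (hS (.inr (.inr (.inr ⟨(j, i), hgt⟩))))
  have hspan : T = ⊤ := by
    rw [eq_top_iff]
    intro q _
    obtain ⟨⟨x, hx⟩, rfl⟩ := I.toCotangent_surjective q
    induction hx using Submodule.span_induction with
    | mem y hy => obtain ⟨g, rfl⟩ := hy; exact hT g
    | zero =>
      rw [show (⟨0, _⟩ : I) = 0 from rfl, map_zero]; exact zero_mem _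
    | add y z hy hz hy' hz' =>
      rw [show (⟨y + z, _⟩ : I) = (⟨y, hy⟩ : I) + ⟨z, hz⟩ from rfl, map_add]; exact add_mem (hy' trivial) (hz' trivial)
    | smul r y hy hy' =>
      obtain ⟨c, hc⟩ := exists_const m k r
      have : I.toCotangent ⟨r • y, I.smul_mem r hy⟩ = c • I.toCotangent ⟨y, hy⟩ := by
        rw [← IsScalarTower.algebraMap_smul (URing k m) c, ← map_smul, I.toCotangent_eq]
        show r * y - algebraMap k _ c * y ∈ I ^ 2
        rw [← sub_mul, pow_two]
        exact Ideal.mul_mem_mul hc hy
      rw [this]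
      exact T.smul_mem c (hy' trivial)
  have hli : LinearIndependent k (fun s => cls m k (gen m s)) := by
    rw [Fintype.linearIndependent_iff]
    intro c hc s₀
    let x : I := ∑ s, c s • (⟨ugen k m (gen m s), hmem _⟩ : I)
    have hx : I.toCotangent x = 0 := by
      rw [← hc, map_sum]
      exact Finset.sum_congr rfl fun s _ => by
        rw [← algebraMap_smul (URing k m) (c s), map_smul]
        exact IsScalarTower.algebraMap_smul (URing k m) (c s) (cls m k (gen m s))
    have hx2 : (x : URing k m) ∈ I ^ 2 := (I.toCotangent_eq_zero x).mp hx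
    have hz : TrivSqZeroExt.snd (φ m k (x : URing k m)) = 0 := by
      rw [pow_two] at hx2
      refine Submodule.mul_induction_on hx2 (fun p hp q hq => ?_) (fun p q hp hq => ?_)
      · simp [fst_φ m k hp, fst_φ m k hq]
      · simp [hp, hq]
    have hxval : TrivSqZeroExt.snd (φ m k (x : URing k m)) = ∑ s, c s • (Pi.single s 1 : S m → k) := by
      simp only [x, AddSubmonoidClass.coe_finsetSum, SetLike.val_smul_of_tower, map_sum, map_smul,
        TrivSqZeroExt.snd_sum, TrivSqZeroExt.snd_smul, φ_ugen, eps, TrivSqZeroExt.snd_inr, hgen]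
    have := congrFun (hxval.symm.trans hz) s₀
    simpa [Finset.sum_apply, Pi.single_apply] using this
  rw [Module.finrank_eq_card_basis (Module.Basis.mk hli hspan.ge)]
  have hcard : Fintype.card {q : Fin m × Fin m // q.1 < q.2} * 2 + m = m * m := by
    let e : {q : Fin m × Fin m // q.1 < q.2} ⊕ {q : Fin m × Fin m // q.1 < q.2} ⊕ Fin m ≃ Fin m × Fin m :=
      { toFun := fun s => match s with
          | .inl q => q.1
          | .inr (.inl q) => (q.1.2, q.1.1)
          | .inr (.inr i) => (i, i)
        invFun := fun p => if h : p.1 < p.2 then .inl ⟨p, h⟩ else if h' : p.2 < p.1 then .inr (.inl ⟨(p.2, p.1), h'⟩) else .inr (.inr p.1)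
        left_inv := by
          rintro (⟨⟨a, b⟩, h⟩ | ⟨⟨a, b⟩, h⟩ | i)
          · simp only at h; simp [h]
          · simp only at h; simp [h, not_lt.mpr h.le]
          · simp
        right_inv := by
          rintro ⟨a, b⟩
          rcases lt_trichotomy a b with h | rfl | h
          · simp [h]
          · simp
          · simp [h, not_lt.mpr h.le] }
    have := Fintype.card_congr e
    simp only [Fintype.card_sum, Fintype.card_prod, Fintype.card_fin] at this
    omega
  simp only [S, Fintype.card_sum, Fintype.card_unit, Fintype.card_fin]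
  rw [Nat.eq_div_iff_mul_eq_left two_ne_zero ?_]
  · nlinarith [hcard]
  · exact (Nat.even_mul_succ_self (m + 1)).two_dvd.trans (by rw [Nat.mul_comm])

end Groth.Agent.Lib.CurveAlg.Tangent
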