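import Groth.Prelude.Def_W4c5m1nsnscurvesI
import Groth.Agent.Lib.CurveAlg.Iff
import Mathlib.Tactic.LinearCombination

/-!
# `O(C_n) = O(U_{n+1})`
-/

namespace Groth.Agent.Lib.CurveAlg.Tower

open W4c5m1nsnscurves Def Comm

universe u

variable (R : Type u) [CommRing R] (m : ℕ)

set_option linter.unusedSectionVars false

theorem rel_ugen : Rel (R := URing R m) (ugen R m) := by
  have hz : ∀ p ∈ URel R m, Ideal.Quotient.mk (Ideal.span (URel R m)) p = 0 := fun p hp =>
    Ideal.Quotient.eq_zero_iff_mem.mpr (Ideal.subset_span hp)
  refine ⟨fun i j h => ?_, fun i j h => ?_, fun i j h => ?_, fun i j k h₁ h₂ h₃ => ?_⟩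
  · have := hz _ (Or.inl (Or.inl (Or.inl ⟨⟨(i, j), h⟩, rfl⟩)))
    simp only [map_sub, map_add] at this; simp only [al, ugen]; linear_combination this
  · have := hz _ (Or.inl (Or.inl (Or.inr ⟨⟨(i, j), h⟩, rfl⟩)))
    simp only [map_sub, map_add, map_mul] at this; simp only [ugen]; linear_combination this
  · have := hz _ (Or.inl (Or.inr ⟨⟨(i, j), h⟩, rfl⟩))
    simp only [map_sub, map_add, map_mul] at this; simp only [ugen]; linear_combination this
  · have := hz _ (Or.inr ⟨⟨(i, j, k), h₁, h₂, h₃⟩, rfl⟩)
    simp only [map_sub, map_add, map_mul] at this; simp only [al, ugen]; linear_combination this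

/-- Values of the variables in `O(U_{n+1})`. -/
noncomputable def fwdVar : CVar m → URing R (m + 1)
  | .x2 => ugen R (m + 1) (.ci (Fin.last m))
  | .x3 => ugen R (m + 1) .a + ugen R (m + 1) (.ci (Fin.last m)) + ugen R (m + 1) (.cbi (Fin.last m))
  | .xi i => ugen R (m + 1) (.cij i.castSucc (Fin.last m) (Fin.castSucc_lt_last i).ne)

theorem uincl_ugen (g : UGen m) : uincl R m (ugen R m g) = ugen R (m + 1) g.castSucc := by
  show Ideal.Quotient.mk (Ideal.span (URel R (m + 1))) (MvPolynomial.rename UGen.castSucc (MvPolynomial.X g)) = _
  rw [MvPolynomial.rename_X]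
  rfl

/-- `O(C_n) → O(U_{n+1})`. -/
noncomputable def fwd : CurveAlg (URing R m) m (ugen R m) →+* URing R (m + 1) :=
  Ideal.Quotient.lift _ (MvPolynomial.eval₂Hom (uincl R m).toRingHom (fwdVar R m)) fun p hp => by
    have h := rel_ugen R (m + 1)
    have hle : Ideal.span (CRel (URing R m) m (ugen R m)) ≤
        RingHom.ker (MvPolynomial.eval₂Hom (uincl R m).toRingHom (fwdVar R m)) := by
      rw [Ideal.span_le]
      rintro q ((⟨i, rfl⟩ | ⟨i, rfl⟩) | ⟨⟨⟨i, j⟩, hq⟩, rfl⟩) <;>
        simp only [SetLike.mem_coe, RingHom.mem_ker, map_sub, map_add, map_mul, MvPolynomial.eval₂Hom_X',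
          MvPolynomial.eval₂Hom_C, AlgHom.toRingHom_eq_coe, RingHom.coe_coe, uincl_ugen, fwdVar, UGen.castSucc]
      · have hl := h.lin i.castSucc (Fin.last m) (Fin.castSucc_lt_last i).ne
        have hq := h.quad i.castSucc (Fin.last m) (Fin.castSucc_lt_last i).ne
        simp only [al] at hl hq
        linear_combination -hq + (ugen R (m + 1) (.ci (Fin.last m))) * hl
      · have hl := h.lin i.castSucc (Fin.last m) (Fin.castSucc_lt_last i).ne
        have hq := h.quad i.castSucc (Fin.last m) (Fin.castSucc_lt_last i).ne
        have hq' := h.quad' i.castSucc (Fin.last m) (Fin.castSucc_lt_last i).ne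
        simp only [al] at hl hq hq'
        grind
      · have ht := h.tri i.castSucc j.castSucc (Fin.last m) (fun e => hq (Fin.castSucc_injective _ e))
          (Fin.castSucc_lt_last j).ne (Fin.castSucc_lt_last i).ne
        simp only [al] at ht
        linear_combination -ht
    exact hle hp

variable {R m}

local notation "CA" => CurveAlg (URing R m) m (ugen R m)

/-- The class of a variable. -/
noncomputable def cx (u : CVar m) : CA := Ideal.Quotient.mk (Ideal.span (CRel (URing R m) m (ugen R m))) (MvPolynomial.X u)

/-- The class of a generator of `O(U_n)`. -/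
noncomputable def cg (g : UGen m) : CA := algebraMap (URing R m) CA (ugen R m g)

/-- Values of the coordinates of the last point. -/
noncomputable def bwdVar : UGen (m + 1) → CA
  | .a => cg .a
  | .c => cg .c
  | .cb => cg .cb
  | .ci i => Fin.lastCases (cx .x2) (fun i => cg (.ci i)) i
  | .cbi i => Fin.lastCases (cx .x3 - cg .a - cx .x2) (fun i => cg (.cbi i)) i
  | .cij i j h => Fin.lastCases (motive := fun i => i ≠ j → CA)
      (fun _ => Fin.lastCases (motive := fun _ => CA) 0
        (fun j => cg (.ci j) + cg (.cbi j) + cx .x3 - cx (.xi j)) j)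
      (fun i h => Fin.lastCases (motive := fun j => i.castSucc ≠ j → CA) (fun _ => cx (.xi i))
        (fun j h => cg (.cij i j (fun e => h (by rw [e])))) j h) i h

set_option maxHeartbeats 1000000 in
theorem bwd_rel [NeZero m] : Rel (R := CA) (v := bwdVar (R := R) (m := m)) := by
  have h := rel_ugen R m
  have hlin : ∀ i j hij, cg (R := R) (.cij i j hij) + cg (.cij j i (Ne.symm hij)) =
      cg .a + cg (.ci i) + cg (.cbi i) + cg (.ci j) + cg (.cbi j) := fun i j hij => by
    have := congrArg (algebraMap (URing R m) CA) (h.lin i j hij)
    simp only [al, map_add] at this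
    exact this
  have hquad : ∀ i j hij, cg (R := R) (.cij j i (Ne.symm hij)) * cg (.ci j) + cg (.cij i j hij) * cg (.ci i) -
      cg (.ci i) * cg (.ci j) = cg .c := fun i j hij => by
    have := congrArg (algebraMap (URing R m) CA) (h.quad i j hij)
    simp only [map_add, map_sub, map_mul] at this
    exact this
  have hquad' : ∀ i j hij, cg (R := R) (.cij j i (Ne.symm hij)) * cg (.cbi i) + cg (.cij i j hij) * cg (.cbi j) -
      cg (.cbi i) * cg (.cbi j) = cg .cb := fun i j hij => by
    have := congrArg (algebraMap (URing R m) CA) (h.quad' i j hij)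
    simp only [map_add, map_sub, map_mul] at this
    exact this
  have htri : ∀ i j k h₁ h₂ h₃, cg (R := R) (.cij i j h₁) * cg (.cij j k h₂) + cg (.cij j i (Ne.symm h₁)) * cg (.cij i k h₃) -
      cg (.cij i k h₃) * cg (.cij j k h₂) + (cg .a + cg (.ci k) + cg (.cbi k)) * cg (.ci k) = cg .c :=
    fun i j k h₁ h₂ h₃ => by
      have := congrArg (algebraMap (URing R m) CA) (h.tri i j k h₁ h₂ h₃)
      simp only [al, map_add, map_sub, map_mul] at this
      exact this
  have e1 : ∀ i, cx (R := R) .x2 * cx (.xi i) = cx .x2 * cx .x3 + cg (.ci i) * cx (.xi i) + cg (.cbi i) * cx .x2 - cg .c :=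
    fun i => Iota.x_xi (ugen R m) i
  have e2 : ∀ i, cx (R := R) .x3 * cx (.xi i) = cx .x2 * cx .x3 + (cg .a + cg (.ci i) + cg (.cbi i)) * cx (.xi i) +
      (cg .cb - cg .c - (cg .a + cg (.ci i) + cg (.cbi i)) * cg (.cbi i)) := fun i => by
    have := Iota.y_xi (ugen R m) i
    simp only [al, map_add] at this
    exact this
  have e3 : ∀ i j hij, cx (R := R) (.xi i) * cx (.xi j) = cx .x2 * cx .x3 + cg (.cij i j hij) * cx (.xi j) +
      cg (.cij j i (Ne.symm hij)) * cx (.xi i) - cg .c := fun i j hij => Iota.xi_xj (ugen R m) i j hij
  have last_ne : ∀ {i : Fin m}, i.castSucc ≠ Fin.last m := fun {i} => (Fin.castSucc_lt_last i).ne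
  refine ⟨fun i j hij => ?_, fun i j hij => ?_, fun i j hij => ?_, fun i j k h₁ h₂ h₃ => ?_⟩
  · induction i using Fin.lastCases with
    | last => induction j using Fin.lastCases with
      | last => exact absurd rfl hij
      | cast j => simp [bwdVar, al]; ring
    | cast i => induction j using Fin.lastCases with
      | last => simp [bwdVar, al]; ring
      | cast j =>
        simp [bwdVar, al]; linear_combination hlin i j (fun e => hij (by rw [e]))
  · induction i using Fin.lastCases with
    | last => induction j using Fin.lastCases with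
      | last => exact absurd rfl hij
      | cast j => simp [bwdVar]; linear_combination -(e1 j)
    | cast i => induction j using Fin.lastCases with
      | last => simp [bwdVar]; linear_combination -(e1 i)
      | cast j => simp [bwdVar]; linear_combination hquad i j (fun e => hij (by rw [e]))
  · induction i using Fin.lastCases with
    | last => induction j using Fin.lastCases with
      | last => exact absurd rfl hij
      | cast j => simp [bwdVar]; linear_combination (e2 j) - (e1 j)
    | cast i => induction j using Fin.lastCases with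
      | last => simp [bwdVar]; linear_combination (e2 i) - (e1 i)
      | cast j => simp [bwdVar]; linear_combination hquad' i j (fun e => hij (by rw [e]))
  · induction i using Fin.lastCases with
    | last =>
      induction j using Fin.lastCases with
      | last => exact absurd rfl h₁
      | cast j => induction k using Fin.lastCases with
        | last => exact absurd rfl h₃
        | cast k =>
          have hjk : j ≠ k := fun e => h₂ (by rw [e])
          simp [bwdVar, al]
          linear_combination e2 j - e3 j k hjk + hquad j k hjk - hquad' j k hjk +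
            (cg (UGen.cbi j) - cg (UGen.ci k) - cx (CVar.xi j)) * hlin j k hjk
    | cast i =>
      induction j using Fin.lastCases with
      | last => induction k using Fin.lastCases with
        | last => exact absurd rfl h₂
        | cast k =>
          have hik : i ≠ k := fun e => h₃ (by rw [e])
          simp [bwdVar, al]
          linear_combination e2 i - e3 i k hik + hquad i k hik - hquad' i k hik +
            (cg (UGen.cbi i) - cg (UGen.ci k) - cx (CVar.xi i)) * hlin i k hik
      | cast j =>
        have hij : i ≠ j := fun e => h₁ (by rw [e])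
        induction k using Fin.lastCases with
        | last =>
          simp [bwdVar, al]
          have := e3 i j hij
          linear_combination -this
        | cast k =>
          simp [bwdVar, al]
          linear_combination htri i j k hij (fun e => h₂ (by rw [e])) (fun e => h₃ (by rw [e]))

variable (R m)

/-- `O(U_{n+1}) → O(C_n)`. -/
noncomputable def bwd [NeZero m] : URing R (m + 1) →+* CA :=
  Ideal.Quotient.lift _ (MvPolynomial.eval₂Hom ((algebraMap (URing R m) CA).comp (algebraMap R (URing R m)))
    (bwdVar (R := R) (m := m))) fun p hp => by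
    have hle : Ideal.span (URel R (m + 1)) ≤ RingHom.ker (MvPolynomial.eval₂Hom
        ((algebraMap (URing R m) CA).comp (algebraMap R (URing R m))) (bwdVar (R := R) (m := m))) := by
      rw [Ideal.span_le]
      intro q hq
      rw [SetLike.mem_coe, RingHom.mem_ker]
      have h := bwd_rel (R := R) (m := m)
      obtain (((⟨q, rfl⟩ | ⟨q, rfl⟩) | ⟨q, rfl⟩) | ⟨q, rfl⟩) := hq <;>
        simp only [map_sub, map_add, map_mul, MvPolynomial.eval₂Hom_X']
      · have := h.lin _ _ q.2; simp only [al] at this; linear_combination this
      · linear_combination h.quad _ _ q.2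
      · linear_combination h.quad' _ _ q.2
      · have := h.tri _ _ _ q.2.1 q.2.2.1 q.2.2.2; simp only [al] at this; linear_combination this
    exact hle hp

theorem fwd_cx (u : CVar m) : fwd R m (cx u) = fwdVar R m u := by simp [fwd, cx]

theorem fwd_algebraMap (r : URing R m) : fwd R m (algebraMap (URing R m) CA r) = uincl R m r := by
  show MvPolynomial.eval₂Hom (uincl R m).toRingHom (fwdVar R m) (MvPolynomial.C r) = _
  simp

theorem bwd_ugen [NeZero m] (g : UGen (m + 1)) : bwd R m (ugen R (m + 1) g) = bwdVar g := by
  show MvPolynomial.eval₂Hom _ _ (MvPolynomial.X g) = _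
  exact MvPolynomial.eval₂Hom_X' _ _ _

theorem exists_equiv [NeZero m] : ∃ e : CA ≃+* URing R (m + 1),
    (∀ r, e (algebraMap (URing R m) CA r) = uincl R m r) ∧ ∀ u, e (cx u) = fwdVar R m u := by
  refine ⟨RingEquiv.ofRingHom (fwd R m) (bwd R m) ?_ ?_, fwd_algebraMap R m, fwd_cx R m⟩
  · refine Ideal.Quotient.ringHom_ext (MvPolynomial.ringHom_ext (fun r => ?_) fun g => ?_)
    · show fwd R m (bwd R m (algebraMap R _ r)) = _
      have : bwd R m (algebraMap R _ r) = algebraMap (URing R m) CA (algebraMap R _ r) := by
        show MvPolynomial.eval₂Hom _ _ (MvPolynomial.C r) = _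
        simp
      rw [this, fwd_algebraMap, AlgHom.commutes]
      rfl
    · show fwd R m (bwd R m (ugen R (m + 1) g)) = ugen R (m + 1) g
      rw [bwd_ugen]
      cases g with
      | a => simp [bwdVar, cg, fwd_algebraMap, uincl_ugen, UGen.castSucc]
      | c => simp [bwdVar, cg, fwd_algebraMap, uincl_ugen, UGen.castSucc]
      | cb => simp [bwdVar, cg, fwd_algebraMap, uincl_ugen, UGen.castSucc]
      | ci i =>
        induction i using Fin.lastCases with
        | last => simp [bwdVar, fwd_cx, fwdVar]
        | cast i => simp [bwdVar, cg, fwd_algebraMap, uincl_ugen, UGen.castSucc]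
      | cbi i =>
        induction i using Fin.lastCases with
        | last => simp [bwdVar, cg, fwd_cx, fwd_algebraMap, uincl_ugen, UGen.castSucc, fwdVar]; ring
        | cast i => simp [bwdVar, cg, fwd_algebraMap, uincl_ugen, UGen.castSucc]
      | cij i j h =>
        induction i using Fin.lastCases with
        | last => induction j using Fin.lastCases with
          | last => exact absurd rfl h
          | cast j =>
            simp [bwdVar, cg, fwd_cx, fwd_algebraMap, uincl_ugen, UGen.castSucc, fwdVar]
            have := (rel_ugen R (m + 1)).lin j.castSucc (Fin.last m) h.symm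
            simp only [al] at this
            linear_combination -this
        | cast i => induction j using Fin.lastCases with
          | last => simp [bwdVar, fwd_cx, fwdVar]
          | cast j => simp [bwdVar, cg, fwd_algebraMap, uincl_ugen, UGen.castSucc]
  · refine Ideal.Quotient.ringHom_ext (MvPolynomial.ringHom_ext (fun r => ?_) fun u => ?_)
    · obtain ⟨p, rfl⟩ := Ideal.Quotient.mk_surjective r
      suffices h : ((bwd R m).comp (uincl R m).toRingHom).comp (Ideal.Quotient.mk (Ideal.span (URel R m))) =
          (algebraMap (URing R m) CA).comp (Ideal.Quotient.mk (Ideal.span (URel R m))) by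
        show bwd R m (fwd R m (algebraMap (URing R m) CA (Ideal.Quotient.mk _ p))) = _
        rw [fwd_algebraMap]
        exact RingHom.congr_fun h p
      refine MvPolynomial.ringHom_ext (fun r => ?_) fun g => ?_
      · show bwd R m (uincl R m (algebraMap R _ r)) = _
        rw [AlgHom.commutes]
        show MvPolynomial.eval₂Hom _ _ (MvPolynomial.C r) = _
        simp
        rfl
      · show bwd R m (uincl R m (ugen R m g)) = cg g
        rw [uincl_ugen, bwd_ugen]
        cases g <;> simp [UGen.castSucc, bwdVar]
    · show bwd R m (fwd R m (cx u)) = cx u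
      rw [fwd_cx]
      cases u <;> simp [fwdVar, bwd_ugen, bwdVar]

end Groth.Agent.Lib.CurveAlg.Tower
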